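import Cfsg.Agent.Lib.NilpotentPPrime.Count
import Cfsg.Agent.Lib.Qd.Construct
import Cfsg.Agent.Lib.PCore.HallHigman
import Cfsg.Agent.Lib.ZJControl.Basic
import Cfsg.Agent.Lib.Replacement.Constrained
import Cfsg.Agent.S0664

/-!
# A minimal counterexample: `O_{p'}(M)` contains an involution

A soluble group with nilpotent `p'`-subgroups is `Qd(p)`-free for `p ≥ 5`; were `O_{p'}(M)` of odd
order, the normaliser of `Z(J(P))` would contain a four-group of `M`, and so lie in `M`, against
`N(P) ⊄ M`.
-/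

set_option autoImplicit false

namespace Cfsg.Agent.NilpotentPPrime

open Subgroup
open Cfsg (IsStronglyEmbedded pCore pPrimeCore)
open Cfsg.Agent.AbelianPComplement (coprime_card_sup coprime_card_zpowers)
open scoped MatrixGroups

universe u

variable {G : Type u} [Group G] [Finite G] {p : ℕ} [hp : Fact p.Prime]

omit [Finite G] in
/-- An element of order `3` inverted by one of order `4`. -/
theorem exists_noncommuting_pPrime (h5 : 5 ≤ p) :
    ∃ D w : ↥(Cfsg.qd p),
      (Nat.card ↥(zpowers D ⊔ zpowers w)).Coprime p ∧ (orderOf D).Coprime (orderOf w) ∧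
        D * w ≠ w * D := by
  have h2 : (2 : ZMod p) ≠ 0 := by
    intro h
    have : ((2 : ℕ) : ZMod p) = 0 := by simpa using h
    rw [ZMod.natCast_eq_zero_iff] at this
    have := Nat.le_of_dvd two_pos this
    omega
  obtain ⟨a, c, hac⟩ : ∃ a c : ZMod p, a * a - a * c + c * c = -1 := by
    have h3 : (3 : ZMod p) ≠ 0 := by
      intro h
      have : ((3 : ℕ) : ZMod p) = 0 := by simpa using h
      rw [ZMod.natCast_eq_zero_iff] at this
      have := Nat.le_of_dvd three_pos this
      omega
    obtain ⟨u, c, huc⟩ := FiniteField.exists_root_sum_quadratic (R := ZMod p)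
      (f := Polynomial.X ^ 2) (g := Polynomial.C 3 * Polynomial.X ^ 2 + Polynomial.C 4)
      (Polynomial.degree_X_pow 2) (by compute_degree!)
      (by rw [ZMod.card]; exact Nat.odd_iff.1 (hp.out.odd_of_ne_two (by omega)))
    simp only [Polynomial.eval_pow, Polynomial.eval_X, Polynomial.eval_add, Polynomial.eval_mul,
      Polynomial.eval_C] at huc
    refine ⟨(u + c) / 2, c, ?_⟩
    field_simp
    linear_combination huc
  let d : SL(2, ZMod p) := ⟨!![0, -1; 1, -1], by simp [Matrix.det_fin_two_of]⟩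
  let s : SL(2, ZMod p) := ⟨!![a, c - a; c, -a], by
    rw [Matrix.det_fin_two_of]; linear_combination -hac⟩
  have hd3 : d ^ 3 = 1 := by
    refine Subtype.ext ?_
    have : d ^ 3 = d * d * d := by simp [pow_succ]
    rw [this, Matrix.SpecialLinearGroup.coe_mul, Matrix.SpecialLinearGroup.coe_mul,
      Matrix.SpecialLinearGroup.coe_one]
    ext i j
    fin_cases i <;> fin_cases j <;> simp [d, Matrix.mul_apply]
  have hs4 : s ^ 4 = 1 := by
    refine Subtype.ext ?_
    have : s ^ 4 = (s * s) * (s * s) := by simp [pow_succ, mul_assoc]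
    rw [this, Matrix.SpecialLinearGroup.coe_mul, Matrix.SpecialLinearGroup.coe_mul,
      Matrix.SpecialLinearGroup.coe_one]
    have hss : (s : Matrix (Fin 2) (Fin 2) (ZMod p)) * (s : Matrix (Fin 2) (Fin 2) (ZMod p)) = -1 := by
      ext i j
      fin_cases i <;> fin_cases j <;> simp [s, Matrix.mul_apply] <;>
        first | linear_combination hac | ring
    rw [hss]
    simp
  have hsds : s * d = d⁻¹ * s := by
    refine Subtype.ext ?_
    rw [Matrix.SpecialLinearGroup.coe_mul, Matrix.SpecialLinearGroup.coe_mul,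
      Matrix.SpecialLinearGroup.coe_inv]
    ext i j
    fin_cases i <;> fin_cases j <;> simp [d, s, Matrix.adjugate_fin_two, Matrix.mul_apply] <;> ring
  let e : SL(2, ZMod p) →* ↥(Cfsg.qd p) := MonoidHom.mk'
    (fun M => ⟨Qd.qdMat 0 M, Qd.qdMat_mem 0 M⟩) fun M N => Subtype.ext (by
      show Qd.qdMat 0 (M * N) = Qd.qdMat 0 M * Qd.qdMat 0 N
      rw [Qd.qdMat_mul, Matrix.mulVec_zero, add_zero])
  have he : Function.Injective e := by
    intro M N hMN
    have h1 : Qd.qdMat 0 M = Qd.qdMat 0 N := congrArg Subtype.val hMN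
    have h3 := congrArg (fun A : Matrix.SpecialLinearGroup (Fin 3) (ZMod p) =>
      (A : Matrix (Fin 3) (Fin 3) (ZMod p))) h1
    simp only [Qd.qdMat_coe] at h3
    refine Subtype.ext ?_
    ext i j
    fin_cases i <;> fin_cases j
    · simpa using congrFun (congrFun h3 0) 0
    · simpa using congrFun (congrFun h3 0) 1
    · simpa using congrFun (congrFun h3 1) 0
    · simpa using congrFun (congrFun h3 1) 1
  refine ⟨e d, e s, ?_, ?_, fun hc => ?_⟩
  · have hn : zpowers s ≤ normalizer (zpowers d : Set (SL(2, ZMod p))) := by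
      rw [zpowers_le, mem_normalizer_iff_map_conj_eq, MonoidHom.map_zpowers]
      show zpowers (s * d * s⁻¹) = _
      rw [hsds, mul_inv_cancel_right, zpowers_inv]
    rw [← MonoidHom.map_zpowers, ← MonoidHom.map_zpowers, ← Subgroup.map_sup, sup_comm,
      Subgroup.card_map_of_injective he]
    refine coprime_card_sup hn ?_ ?_
    · refine coprime_card_zpowers (Nat.Coprime.coprime_dvd_left (orderOf_dvd_of_pow_eq_one hs4) ?_)
      rw [Nat.coprime_comm, hp.out.coprime_iff_not_dvd]
      intro h
      have := Nat.le_of_dvd (by norm_num) h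
      omega
    · refine coprime_card_zpowers (Nat.Coprime.coprime_dvd_left (orderOf_dvd_of_pow_eq_one hd3) ?_)
      rw [Nat.coprime_comm, hp.out.coprime_iff_not_dvd]
      intro h
      have := Nat.le_of_dvd (by norm_num) h
      omega
  · exact (((by norm_num : Nat.Coprime 3 4).coprime_dvd_left (orderOf_dvd_of_pow_eq_one
      (show e d ^ 3 = 1 by rw [← map_pow, hd3, map_one]))).coprime_dvd_right
      (orderOf_dvd_of_pow_eq_one (show e s ^ 4 = 1 by rw [← map_pow, hs4, map_one])))
  · rw [← map_mul, ← map_mul] at hc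
    have h1 : d * s = s * d := he hc
    rw [hsds, mul_left_inj] at h1
    have h4 : d * d = 1 := by
      nth_rewrite 2 [h1]
      exact mul_inv_cancel d
    have h6 : d = 1 := by
      have : d ^ 3 = d := by rw [pow_succ, pow_two, h4, one_mul]
      rw [hd3] at this
      exact this.symm
    have h7 := congrArg (fun A : SL(2, ZMod p) => (A : Matrix (Fin 2) (Fin 2) (ZMod p)) 1 0) h6
    simp [d] at h7

/-- A soluble group with nilpotent `p'`-subgroups does not involve `Qd(p)`, `p ≥ 5`. -/
theorem Hyp.not_involves_qd [Group.IsSolvable G] (h : Hyp p G) (h5 : 5 ≤ p) :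
    ¬ Cfsg.Involves ↥(Cfsg.qd p) G := by
  intro hinv
  obtain ⟨D, w, hcop, hco, hne⟩ := exists_noncommuting_pPrime (p := p) h5
  obtain ⟨K, φ, hφ⟩ := Qd.exists_surjective_of_involves hinv
  set H₀ := zpowers D ⊔ zpowers w
  have hres : Function.Surjective (φ.subgroupComap H₀) := fun x => by
    obtain ⟨k, hk⟩ := hφ x
    exact ⟨⟨k, show φ k ∈ H₀ by rw [hk]; exact x.2⟩, Subtype.ext hk⟩
  haveI := ((h.of_subgroup K).of_subgroup (H₀.comap φ)).isNilpotent_of_surjective
    (φ.subgroupComap H₀) hres hcop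
  refine hne (congrArg Subtype.val (commute_of_coprime
    (a := (⟨D, mem_sup_left (mem_zpowers D)⟩ : H₀)) (b := ⟨w, mem_sup_right (mem_zpowers w)⟩)
    (by simpa [Subgroup.orderOf_mk] using hco)).eq)

/-- `O_{p'}(M)` contains an involution. -/
theorem MinCtx.exists_involution_core (c : MinCtx p G) {M : Subgroup G} (hM : IsStronglyEmbedded M)
    (T : Sylow 2 G) (hNW : normalizer (StellmacherW.wOf (T : Subgroup G) : Set G) ≤ M) :
    ∃ x ∈ pPrimeCore p ↥M, orderOf x = 2 := by
  haveI : Fact (Nat.Prime 2) := ⟨Nat.prime_two⟩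
  by_contra hno
  haveI := c.solvable M hM.1
  set K := pPrimeCore p ↥M with hK
  have hKodd : ¬ 2 ∣ Nat.card K := fun h => by
    obtain ⟨x, hx⟩ := exists_prime_orderOf_dvd_card' (G := K) 2 h
    exact hno ⟨x, x.2, (Subgroup.orderOf_coe x).trans hx⟩
  obtain ⟨P, hPM, hPp, hPne, hmax, y, hy, hyM, -⟩ := c.exists_normalizing_not_mem hM T hNW
  obtain ⟨P₀, hP₀⟩ := (hPp.comap_of_injective M.subtype M.subtype_injective).exists_le_sylow
  have hPeq : (P₀ : Subgroup M).map M.subtype = P :=
    hmax _ (fun x hx => ⟨⟨x, hPM hx⟩, hP₀ hx, rfl⟩) (map_subtype_le _) (P₀.isPGroup'.map _)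
  have hfree : ¬ Cfsg.Involves ↥(Cfsg.qd p) (↥M ⧸ K) := fun h =>
    (c.hyp.of_subgroup M).not_involves_qd c.five (Qd.involves_of_involves_quotient K h)
  have hc := PCore.centralizer_pCore_le_of_isSolvable
    (PCore.pPrimeCore_quotient_self_eq_bot (p := p) (G := ↥M))
  have hn := S0664.result c.ne_two hfree hc
    (P₀.mapSurjective (QuotientGroup.mk'_surjective K))
  rw [Replacement.map_sylow_quotient, Replacement.centerThompsonAOf_map_injOn _
    (Replacement.injOn_mk_pPrimeCore P₀.isPGroup')] at hn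
  have hF := ZJControl.isZJLike_A.{u} c.ne_two
  have htop := Replacement.sup_normalizer_of_normal_map P₀ (hF.le _ _) hn
  set Z := Cfsg.centerThompsonAOf (P₀ : Subgroup M) with hZ
  set N := normalizer (Z : Set M)
  have hodd : ¬ 2 ∣ N.index := by
    have h1 := PCore.card_sup_dvd K N
    rw [htop, card_top, ← N.card_mul_index, mul_comm (Nat.card K)] at h1
    exact fun h => hKodd (h.trans (Nat.dvd_of_mul_dvd_mul_left Nat.card_pos h1))
  have hMi : ¬ 2 ∣ M.index := fun h =>
    T.not_dvd_index (h.trans (index_dvd_of_le ((StellmacherW.adm_wOf _).hTA.trans hNW)))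
  set X := N.map M.subtype
  have hX : ¬ 2 ∣ X.index := by
    rw [index_map_subtype]
    exact Nat.prime_two.not_dvd_mul hodd hMi
  obtain ⟨S⟩ : Nonempty (Sylow 2 X) := inferInstance
  have hS : ¬ 2 ∣ ((S : Subgroup X).map X.subtype).index := by
    rw [index_map_subtype]
    exact Nat.prime_two.not_dvd_mul S.not_dvd_index hX
  let T₂ : Sylow 2 G := (S.isPGroup'.map X.subtype).toSylow hS
  have hT₂ : (T₂ : Subgroup G) ≤ X := by
    show (S : Subgroup X).map X.subtype ≤ X
    exact map_subtype_le _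
  have hZP : Z.map M.subtype = Cfsg.centerThompsonAOf P := by
    rw [← hPeq]; exact (hF.map_subtype (P₀ : Subgroup M)).symm
  have hXN : X ≤ normalizer (Cfsg.centerThompsonAOf P : Set G) := by
    rw [← hZP]; exact le_normalizer_map _
  have hle := c.le_of_four hM (X := normalizer (Cfsg.centerThompsonAOf P : Set G))
    (c.normalizer_ne_top (hF.ne_bot G P hPp hPne)
      (c.ne_top_of_isPGroup (hPp.to_le (hF.le G P))))
    (F := StellmacherW.wOf (T₂ : Subgroup G))
    (fun x hx => hXN (hT₂ ((StellmacherW.adm_wOf _).hAT hx)))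
    (fun x hx => (map_subtype_le N) (hT₂ ((StellmacherW.adm_wOf _).hAT hx))) (fun x hx => wOf_sq hx)
    (le_trans (by norm_num) (c.card_wOf T₂))
  exact hyM (hle (hF.normalizer_le P hy))

end Cfsg.Agent.NilpotentPPrime
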