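import Cfsg.Agent.Lib.NilpotentPPrime.StrongEmb

/-!
# A minimal counterexample: proper subgroups with a four-group of `M`
-/

set_option autoImplicit false
set_option linter.style.haveILetI false

namespace Cfsg.Agent.NilpotentPPrime

open Subgroup
open Cfsg (pCore pPrimeCore IsStronglyEmbedded)
open Cfsg.Agent.Involution
open Cfsg.Agent.AbelianPComplement (card_le_two_mul orderOf_eq_two)

universe u

variable {G : Type u} [Group G] [Finite G] {p : ℕ} [hp : Fact p.Prime]

omit hp in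
/-- The normaliser of a nontrivial `2`-subgroup of a strongly embedded `M` lies in `M`. -/
theorem normalizer_le_of_stronglyEmbedded {M D : Subgroup G} (hM : IsStronglyEmbedded M)
    (hDM : D ≤ M) (hD : IsPGroup 2 D) (hne : D ≠ ⊥) : normalizer (D : Set G) ≤ M := by
  intro n hn
  obtain ⟨u, hu, hu2, -⟩ := exists_central_involution hD hne
  exact StrongEmb.mem_of_conj_mem hM (hDM hu) hu2 (hDM ((mem_normalizer_iff.1 hn u).1 hu))

/-- A proper subgroup containing a four-group of `M` lies in `M`. -/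
theorem MinCtx.le_of_four (c : MinCtx p G) {M : Subgroup G} (hM : IsStronglyEmbedded M)
    {X F : Subgroup G} (hX : X ≠ ⊤) (hFX : F ≤ X) (hFM : F ≤ M) (hF : ∀ x ∈ F, x * x = 1)
    (h4 : 4 ≤ Nat.card F) : X ≤ M := by
  haveI : Fact (Nat.Prime 2) := ⟨Nat.prime_two⟩
  haveI := c.solvable X hX
  have hF2 : IsPGroup 2 F := fun x => ⟨1, Subtype.ext (by
    show (x : G) ^ (2 ^ 1) = 1
    rw [pow_one, pow_two]; exact hF _ x.2)⟩
  have hcm : IsMulCommutative F := ⟨⟨fun x y => by
    have hi : ∀ z : F, z⁻¹ = z := fun z =>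
      inv_eq_of_mul_eq_one_right (Subtype.ext (hF _ z.2))
    rw [← hi (x * y), mul_inv_rev, hi x, hi y]⟩⟩
  obtain ⟨f, hfF, hf1⟩ : ∃ f ∈ F, f ≠ 1 := by
    by_contra hno
    push Not at hno
    rw [(eq_bot_iff_forall F).2 hno, card_bot] at h4
    omega
  have hY : oCore X ≤ M := by
    refine Coprime.le_of_forall_cyclic_quotient (A := F)
      (hFX.trans (le_normalizer_oCore X)) ?_ fun B hB hcyc => ?_
    · obtain ⟨j, hj⟩ := IsPGroup.iff_card.1 hF2
      rw [hj]
      exact Nat.Coprime.pow_left j (coprime_oCore X).symm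
    · obtain ⟨a, ha, hsup⟩ := hcyc
      have h2 := card_le_two_mul hF hB ha hsup
      obtain ⟨b, hb, hb1⟩ : ∃ b ∈ B, b ≠ 1 := by
        by_contra hno
        push Not at hno
        rw [(eq_bot_iff_forall B).2 hno, card_bot] at h2
        omega
      intro y hy
      exact StrongEmb.mem_of_commute hM (hFM (hB hb)) (orderOf_eq_two (hF b (hB hb)) hb1)
        (mem_centralizer_iff.1 (mem_inf.1 hy).2 b hb).symm
  obtain ⟨S, hS⟩ := (hF2.comap_of_injective X.subtype X.subtype_injective).exists_le_sylow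
  have hfS : (⟨f, hFX hfF⟩ : X) ∈ (S : Subgroup X) := hS hfF
  set Q := (S : Subgroup X).map X.subtype
  have hQ2 : IsPGroup 2 Q := S.isPGroup'.map _
  have hfQ : f ∈ Q := ⟨_, hfS, rfl⟩
  have hQM : Q ≤ M := by
    refine le_of_normalizer_le hQ2 (normalizer_le_of_stronglyEmbedded hM inf_le_right
      (hQ2.to_le inf_le_left) fun h => hf1 ?_)
    have h1 : f ∈ Q ⊓ M := mem_inf.2 ⟨hfQ, hFM hfF⟩
    rwa [h, mem_bot] at h1
  set O := pPrimeCore 2 ↥X with hOdef
  set π := QuotientGroup.mk' O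
  set R := pCore 2 (↥X ⧸ O) with hR
  have hRc := PCore.centralizer_pCore_le_of_isSolvable
    (PCore.pPrimeCore_quotient_self_eq_bot (p := 2) (G := ↥X))
  set R₀ := (S : Subgroup X) ⊓ R.comap π with hR₀
  have hR₀2 : IsPGroup 2 R₀ := S.isPGroup'.to_le inf_le_left
  have hmap : R₀.map π = R := by
    refine le_antisymm (map_le_iff_le_comap.2 inf_le_right) fun r hr => ?_
    obtain ⟨q, hq, rfl⟩ : r ∈ (S : Subgroup X).map π := by
      have h := Balance.pCore_le_sylow (S.mapSurjective (QuotientGroup.mk'_surjective O)) hr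
      rwa [← SetLike.mem_coe, Sylow.coe_mapSurjective] at h
    exact ⟨q, ⟨hq, hr⟩, rfl⟩
  have hRne : R ≠ ⊥ := by
    intro h
    have hcent : centralizer ((⊥ : Subgroup (↥X ⧸ O)) : Set (↥X ⧸ O)) ≤ ⊥ := by
      rw [hR] at h; rw [h] at hRc; exact hRc
    have h1 : π ⟨f, hFX hfF⟩ = 1 := by
      refine (mem_bot).1 (hcent (mem_centralizer_iff.2 fun y hy => ?_))
      rw [mem_bot.1 hy, one_mul, mul_one]
    have hz : IsPGroup 2 (zpowers (⟨f, hFX hfF⟩ : X)) :=
      S.isPGroup'.to_le (zpowers_le.2 hfS)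
    have h2 := (PCore.disjoint_of_isPGroup_of_coprime hz
      PCore.coprime_card_pPrimeCore).le_bot ⟨mem_zpowers _, (QuotientGroup.eq_one_iff _).1 h1⟩
    exact hf1 (congrArg Subtype.val (mem_bot.1 h2))
  have hR₀ne : R₀.map X.subtype ≠ ⊥ := by
    rw [Ne, Subgroup.map_eq_bot_iff_of_injective _ X.subtype_injective]
    intro h
    rw [h, Subgroup.map_bot] at hmap
    exact hRne hmap.symm
  have htop := PCore.map_normalizer_mk' O PCore.coprime_card_pPrimeCore hR₀2
  rw [hmap, normalizer_eq_top_iff.mpr (Components.pCore_normal' 2)] at htop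
  intro x hx
  obtain ⟨y, hy, hxy⟩ : π ⟨x, hx⟩ ∈ (normalizer (R₀ : Set X)).map π := htop ▸ mem_top _
  have h1 : (⟨x, hx⟩ : X) * y⁻¹ ∈ O := by
    rw [← QuotientGroup.ker_mk' O, MonoidHom.mem_ker, map_mul, map_inv, mul_inv_eq_one]
    exact hxy.symm
  have h2 : (y : G) ∈ M := normalizer_le_of_stronglyEmbedded hM
    ((map_mono (inf_le_left)).trans hQM) (hR₀2.map _) hR₀ne
    (le_normalizer_map _ (mem_map_of_mem X.subtype hy))
  have h3 := mul_mem (hY (mem_map_of_mem X.subtype h1)) h2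
  simpa using h3

end Cfsg.Agent.NilpotentPPrime
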