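import Cfsg.Agent.Lib.NilpotentPPrime.CoreInvolution
import Cfsg.Agent.Lib.AbelianPComplement.NormalFour

/-!
# A minimal counterexample: the involutions of `M` form a normal elementary abelian group

They lie in the centre of the Sylow `2`-subgroup of the nilpotent group `O_{p'}(M)`.
-/

set_option autoImplicit false
set_option linter.style.haveILetI false

namespace Cfsg.Agent.NilpotentPPrime

open Subgroup
open Cfsg (IsStronglyEmbedded pPrimeCore)
open Cfsg.Agent.Involution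
open Cfsg.Agent.AbelianPComplement (InvolutionGroup orderOf_eq_two coprime_of_isPGroup_two)

universe u

variable {G : Type u} [Group G] [Finite G] {p : ℕ} [hp : Fact p.Prime]

theorem MinCtx.exists_involutionGroup (c : MinCtx p G) {M : Subgroup G} (hM : IsStronglyEmbedded M)
    (T : Sylow 2 G) (hNW : normalizer (StellmacherW.wOf (T : Subgroup G) : Set G) ≤ M) :
    ∃ E, InvolutionGroup M E := by
  haveI : Fact (Nat.Prime 2) := ⟨Nat.prime_two⟩
  obtain ⟨s, hs, hs2⟩ := c.exists_involution_core hM T hNW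
  obtain ⟨g, -, hg⟩ := SetLike.exists_of_lt (lt_top_iff_ne_top.mpr hM.1)
  set K₀ := pPrimeCore p ↥M with hK₀
  haveI : Group.IsNilpotent K₀ :=
    (c.hyp.of_subgroup M) K₀ PCore.coprime_card_pPrimeCore
  let S : Sylow 2 K₀ := default
  haveI : ((S : Subgroup K₀)).Characteristic := S.characteristic_of_normal inferInstance
  set S₁ := (S : Subgroup K₀).map K₀.subtype with hS₁
  haveI hS₁n : S₁.Normal := ConjAct.normal_of_characteristic_of_normal
  set Z := (center ↥S₁).map S₁.subtype with hZ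
  haveI hZn : Z.Normal := ConjAct.normal_of_characteristic_of_normal
  have hS₁ne : S₁ ≠ ⊥ := by
    rw [hS₁, Ne, Subgroup.map_eq_bot_iff_of_injective _ K₀.subtype_injective]
    refine S.ne_bot_of_dvd_card ?_
    have h1 := orderOf_dvd_natCard (⟨s, hs⟩ : K₀)
    rwa [Subgroup.orderOf_mk, hs2] at h1
  obtain ⟨u, hu, hu2, huc⟩ := exists_central_involution (S.isPGroup'.map K₀.subtype) hS₁ne
  have huZ : u ∈ Z := ⟨⟨u, hu⟩, mem_center_iff.2 fun y => Subtype.ext
    (mem_centralizer_singleton_iff.1 (huc y.2)), rfl⟩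
  set Z' := Z.map M.subtype with hZ'
  have hall : ∀ x ∈ M, x * x = 1 → x ∈ Z' := by
    intro x hx hx2
    by_cases h1 : x = 1
    · rw [h1]; exact one_mem _
    · obtain ⟨d, hd, he⟩ := StrongEmb.exists_mem_inter_conj hM hg
        (s := (u : G)) (t := x) (by rwa [Subgroup.orderOf_coe]) u.2 (orderOf_eq_two hx2 h1) hx
      rw [← he]
      exact ⟨⟨d, (mem_inf.1 hd).1⟩ * u * ⟨d, (mem_inf.1 hd).1⟩⁻¹, hZn.conj_mem _ huZ _, by simp⟩
  have hcomm : ∀ x ∈ Z', ∀ y ∈ Z', x * y = y * x := by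
    rintro _ ⟨a, ⟨a', ha', rfl⟩, rfl⟩ _ ⟨b, ⟨b', hb', rfl⟩, rfl⟩
    have h1 := mem_center_iff.1 ha' b'
    exact congrArg (fun z : S₁ => ((z : M) : G)) h1.symm
  let E : Subgroup G :=
    { carrier := {x | x ∈ M ∧ x * x = 1}
      one_mem' := ⟨one_mem _, mul_one 1⟩
      mul_mem' := fun {x y} hx hy => ⟨mul_mem hx.1 hy.1, by
        rw [mul_assoc, ← mul_assoc y x, hcomm y (hall y hy.1 hy.2) x (hall x hx.1 hx.2),
          mul_assoc x y, ← mul_assoc, hx.2, one_mul, hy.2]⟩
      inv_mem' := fun {x} hx => ⟨inv_mem hx.1, by rw [← mul_inv_rev, hx.2, inv_one]⟩ }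
  refine ⟨E, fun x hx => hx.1, fun m hm => ?_, fun x hx hx2 => ⟨hx, hx2⟩, fun x hx => hx.2, ?_⟩
  · rw [mem_normalizer_iff]
    intro x
    constructor
    · rintro ⟨hx, hx2⟩
      refine ⟨mul_mem (mul_mem hm hx) (inv_mem hm), ?_⟩
      rw [conj_mul, hx2, mul_one, mul_inv_cancel]
    · rintro ⟨hx, hx2⟩
      have h1 := mul_mem (mul_mem (inv_mem hm) hx) hm
      rw [conj_mul, mul_inv_eq_one, mul_eq_left] at hx2
      exact ⟨by simpa [mul_assoc] using h1, hx2⟩
  · exact (c.card_wOf T).trans (card_le_of_le fun x hx =>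
      ⟨hNW (le_normalizer hx), wOf_sq hx⟩)

/-- A `p'`-element of odd order in `M` centralises `E`. -/
theorem MinCtx.commute_pPrime (c : MinCtx p G) {M E : Subgroup G} (hE : InvolutionGroup M E)
    {d : G} (hd : d ∈ M) (hdp : (orderOf d).Coprime p) (hodd : Odd (orderOf d)) {e : G}
    (he : e ∈ E) : d * e = e * d := by
  have hE2 : IsPGroup 2 E := fun x => ⟨1, Subtype.ext (by
    show (x : G) ^ (2 ^ 1) = 1
    rw [pow_one, pow_two]; exact hE.sq _ x.2)⟩
  exact c.hyp.commute_of_mem_normalizer (coprime_of_isPGroup_two c.ne_two hE2) (hE.normal hd) hdp he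
    ((Nat.coprime_two_right.2 hodd).coprime_dvd_right
      (orderOf_dvd_of_pow_eq_one (by rw [pow_two]; exact hE.sq e he)))

theorem MinCtx.centralizer_le (c : MinCtx p G) {M E : Subgroup G} (hM : IsStronglyEmbedded M)
    (hE : InvolutionGroup M E) {d : G} (hd1 : d ≠ 1) (hde : ∀ e ∈ E, d * e = e * d) :
    centralizer ({d} : Set G) ≤ M :=
  c.le_of_four hM (c.centralizer_ne_top hd1) (F := E)
    (fun e he => mem_centralizer_singleton_iff.2 (hde e he).symm) hE.le hE.sq
    (le_trans (by norm_num) hE.card)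

/-- `M ∩ gMg⁻¹` is a `p`-group for `g ∉ M`. -/
theorem MinCtx.isPGroup_inter (c : MinCtx p G) {M E : Subgroup G} (hM : IsStronglyEmbedded M)
    (hE : InvolutionGroup M E) {g : G} (hg : g ∉ M) :
    IsPGroup p ↥(M ⊓ M.map (MulAut.conj g).toMonoidHom) := by
  rintro ⟨x, hx⟩
  obtain ⟨k, r, hr, hkr⟩ := Nat.exists_eq_pow_mul_and_not_dvd (orderOf_pos x).ne' p hp.out.ne_one
  refine ⟨k, Subtype.ext ?_⟩
  show x ^ p ^ k = 1
  by_contra hne
  obtain ⟨hdM, w, hwM, hw⟩ := pow_mem hx (p ^ k)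
  have hw' : g * w * g⁻¹ = x ^ p ^ k := hw
  have ho : (orderOf (x ^ p ^ k)).Coprime p := by
    rw [orderOf_pow, hkr, Nat.gcd_eq_right (Dvd.intro _ rfl),
      Nat.mul_div_cancel_left _ (pow_pos hp.out.pos k)]
    exact (hp.out.coprime_iff_not_dvd.2 hr).symm
  have hod : Odd (orderOf (x ^ p ^ k)) := by
    refine Odd.of_dvd_nat (hM.2.2 g hg) ?_
    have := orderOf_dvd_natCard (⟨x ^ p ^ k, pow_mem hx _⟩ :
      ↥(M ⊓ M.map (MulAut.conj g).toMonoidHom))
    rwa [Subgroup.orderOf_mk] at this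
  have howp : (orderOf w).Coprime p := by
    rwa [← StrongEmb.orderOf_conj' g w, hw']
  have hwod : Odd (orderOf w) := by
    rwa [← StrongEmb.orderOf_conj' g w, hw']
  obtain ⟨e, he, he2⟩ := hE.exists_ne_one
  have h1 := c.commute_pPrime hE hwM howp hwod he
  have hcom : g * e * g⁻¹ * x ^ p ^ k = x ^ p ^ k * (g * e * g⁻¹) := by
    rw [← hw', conj_mul, conj_mul, h1]
  exact hg (StrongEmb.mem_of_conj_mem hM (hE.le he) he2
    (c.centralizer_le hM hE hne (fun e he => c.commute_pPrime hE hdM ho hod he)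
      (mem_centralizer_singleton_iff.2 hcom)))

end Cfsg.Agent.NilpotentPPrime
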