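import Cfsg.Agent.Lib.AbelianPComplement.Final
import Cfsg.Agent.Lib.NilpotentPPrime.Regular
import Cfsg.Agent.Lib.TICentralisers.Rigid

/-!
# A minimal counterexample does not exist

The products `tv`, `v ∉ M`, are the nontrivial elements of the Sylow `p`-subgroups normalised by
`t`; their number `k` is divisible by `p`, and a double count shows `k ∣ |C(t)|`.
-/

set_option autoImplicit false

namespace Cfsg.Agent.NilpotentPPrime

open Subgroup
open Cfsg (IsStronglyEmbedded)
open Cfsg.Agent.Involution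
open scoped Pointwise
open Cfsg.Agent.AbelianPComplement (InvolutionGroup dvd_of_pow_prime_pow sylow_mem_conj card_outside
  orderOf_eq_two)

universe u

variable {G : Type u} [Group G] [Finite G] {p : ℕ} [hp : Fact p.Prime]

theorem MinCtx.false (c : MinCtx p G) : False := by
  classical
  haveI : Fintype G := Fintype.ofFinite G
  obtain ⟨M, T, hM, hNW⟩ := c.exists_stronglyEmbedded
  obtain ⟨E, hE⟩ := c.exists_involutionGroup hM T hNW
  have hR := c.regular hM T hNW hE
  obtain ⟨t, ht, ht2⟩ := StrongEmb.exists_involution hM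
  have htt := StrongEmb.mul_self_of_orderOf ht2
  have hti := StrongEmb.inv_eq_of_orderOf ht2
  have hpodd : ∀ {x : G} {k : ℕ}, x ^ p ^ k = 1 → x ^ 2 = 1 → x = 1 := fun {x k} h1 h2 =>
    orderOf_eq_one_iff.1 (Nat.eq_one_of_dvd_coprimes
      (((Nat.coprime_primes Nat.prime_two hp.out).2 c.ne_two.symm).pow_right k)
      (orderOf_dvd_of_pow_eq_one h2) (orderOf_dvd_of_pow_eq_one h1))
  -- no `p`-element of `M` is inverted by `t`
  have hnoinv : ∀ z ∈ M, ∀ k, z ^ p ^ k = 1 → t * z * t⁻¹ = z⁻¹ → z = 1 := by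
    intro z hz k hk hinv
    have h1 : z * z ∈ E := by
      have h2 : t * (z⁻¹ * t * z⁻¹⁻¹) ∈ E := mul_mem (hE.mem t ht htt)
        (hE.le_normalizer (inv_mem hz) (hE.mem t ht htt))
      convert h2 using 1
      rw [inv_inv, ← mul_assoc, ← mul_assoc]
      calc z * z = (t * z * t⁻¹)⁻¹ * z := by rw [hinv, inv_inv]
        _ = t * z⁻¹ * t * z := by rw [mul_inv_rev, mul_inv_rev, inv_inv, hti, mul_assoc t z⁻¹]
    have h3 : z ^ 2 = 1 := hpodd (x := z ^ 2) (k := k)
      (by rw [← pow_mul, mul_comm, pow_mul, hk, one_pow])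
      (by rw [pow_two, pow_two]; exact hE.sq _ h1)
    exact hpodd hk h3
  -- an involution inverts the `p`-subgroups it normalises
  have hfpf : ∀ s : G, orderOf s = 2 → ∀ R : Subgroup G, IsPGroup p R →
      (∀ r ∈ R, s * r * s⁻¹ ∈ R) → ∀ r ∈ R, s * r * s⁻¹ = r⁻¹ := by
    intro s hs R hRp hn r hr
    have hsi := StrongEmb.inv_eq_of_orderOf hs
    rw [hsi]
    refine TICentralisers.inverts_of_fpf (StrongEmb.mul_self_of_orderOf hs) R
      (fun x hx => by simpa [hsi] using hn x hx) (fun x hx hxs => ?_) r hr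
    by_contra h1
    obtain ⟨k, hk⟩ := hRp ⟨x, hx⟩
    exact hR.not_dvd_centralizer s hs (dvd_of_pow_prime_pow
      (mem_centralizer_singleton_iff.2 hxs) h1 (congrArg (fun w : R => (w : G)) hk))
  have hinvcomm : ∀ (s : G) (R : Subgroup G), (∀ r ∈ R, s * r * s⁻¹ = r⁻¹) →
      ∀ a ∈ R, ∀ b ∈ R, a * b = b * a := by
    intro s R h a ha b hb
    have h1 := h _ (mul_mem ha hb)
    rw [← conj_mul, h a ha, h b hb, ← mul_inv_rev, inv_inj] at h1
    exact h1.symm
  -- the centraliser of an inverted `p`-element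
  have hcent : ∀ z : G, z ≠ 1 → ∀ k, z ^ p ^ k = 1 → t * z * t⁻¹ = z⁻¹ →
      IsPGroup p ↥(centralizer ({z} : Set G)) ∧
        ∀ r ∈ centralizer ({z} : Set G), t * r * t⁻¹ = r⁻¹ := by
    intro z hz1 k hk hinv
    have hzM : z ∉ M := fun h => hz1 (hnoinv z h k hk hinv)
    have hinvC : ∀ r ∈ centralizer ({z} : Set G), t * r * t⁻¹ = r⁻¹ := by
      intro r hr
      rw [hti]
      refine TICentralisers.inverts_of_fpf htt _ (fun x hx => ?_) (fun x hx hxt => ?_) r hr
      · rw [mem_centralizer_singleton_iff] at hx ⊢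
        have hx' : Commute (t * x * t⁻¹) (t * z * t⁻¹) := by
          show _ = _
          rw [conj_mul, conj_mul, hx]
        rw [hinv, hti] at hx'
        exact Commute.inv_right_iff.1 hx'
      · by_contra hx1
        have hxM : x ∈ M := StrongEmb.mem_of_commute hM ht ht2 hxt
        have hxp : (orderOf x).Coprime p := by
          refine Nat.Coprime.coprime_dvd_left ?_
            (hp.out.coprime_iff_not_dvd.2 (hR.not_dvd_centralizer t ht2)).symm
          have := orderOf_dvd_natCard (⟨x, mem_centralizer_singleton_iff.2 hxt⟩ :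
            centralizer ({t} : Set G))
          rwa [Subgroup.orderOf_mk] at this
        have hxo : Odd (orderOf x) := by
          rw [← Nat.not_even_iff_odd]
          intro hev
          set w := x ^ (orderOf x / 2) with hwdef
          have hw2 : orderOf w = 2 := orderOf_pow_orderOf_div (orderOf_pos x).ne' hev.two_dvd
          refine hR.not_dvd_centralizer w hw2 (dvd_of_pow_prime_pow (z := z)
            (mem_centralizer_singleton_iff.2 ?_) hz1 hk)
          exact (((show Commute z x from (mem_centralizer_singleton_iff.1 hx).symm)).pow_right _).eq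
        exact hzM (c.centralizer_le hM hE hx1 (fun e he => c.commute_pPrime hE hxM hxp hxo he)
          (mem_centralizer_singleton_iff.2 (mem_centralizer_singleton_iff.1 hx).symm))
    refine ⟨?_, hinvC⟩
    rintro ⟨r, hr⟩
    obtain ⟨j, d, hd, hjd⟩ := Nat.exists_eq_pow_mul_and_not_dvd (orderOf_pos r).ne' p hp.out.ne_one
    refine ⟨j, Subtype.ext ?_⟩
    show r ^ p ^ j = 1
    have ho : orderOf (r ^ p ^ j) = d := by
      rw [orderOf_pow, hjd, Nat.gcd_eq_right (Dvd.intro _ rfl),
        Nat.mul_div_cancel_left _ (pow_pos hp.out.pos j)]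
    refine c.hyp.eq_one_of_inverted c.ne_two htt ?_ (ho ▸ (hp.out.coprime_iff_not_dvd.2 hd).symm)
      (hinvC _ (pow_mem hr _))
    rw [← Nat.not_even_iff_odd]
    intro hev
    obtain ⟨s, hs⟩ := exists_prime_orderOf_dvd_card' (G := ↥(centralizer ({z} : Set G))) 2
      (by
        refine hev.two_dvd.trans ?_
        have := orderOf_dvd_natCard (⟨r ^ p ^ j, pow_mem hr _⟩ : centralizer ({z} : Set G))
        rwa [Subgroup.orderOf_mk] at this)
    refine hR.not_dvd_centralizer s ((Subgroup.orderOf_coe s).trans hs)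
      (dvd_of_pow_prime_pow (z := z) (mem_centralizer_singleton_iff.2 ?_) hz1 hk)
    exact (mem_centralizer_singleton_iff.1 s.2).symm
  let 𝓡 := {R : Sylow p G // ∀ r ∈ R, t * r * t⁻¹ ∈ R}
  have huniq : ∀ (R : Sylow p G), (∀ r ∈ R, t * r * t⁻¹ ∈ R) → ∀ z ∈ R, z ≠ 1 →
      (R : Subgroup G) = centralizer ({z} : Set G) := by
    intro R hRt z hz hz1
    have hinv := hfpf t ht2 R R.isPGroup' hRt
    obtain ⟨k, hk⟩ := R.isPGroup' ⟨z, hz⟩
    exact (R.is_maximal' (hcent z hz1 k (congrArg (fun w : (R : Subgroup G) => (w : G)) hk)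
      (hinv z hz)).1 fun r hr => mem_centralizer_singleton_iff.2
        (hinvcomm t R hinv r hr z hz)).symm
  have hcover : ∀ z : G, z ≠ 1 → ∀ k, z ^ p ^ k = 1 → t * z * t⁻¹ = z⁻¹ →
      ∃ R : 𝓡, z ∈ R.1 := by
    intro z hz1 k hk hinv
    obtain ⟨hCp, hCinv⟩ := hcent z hz1 k hk hinv
    obtain ⟨S, hS⟩ := hCp.exists_le_sylow
    have hzS : z ∈ S := hS (mem_centralizer_singleton_iff.2 rfl)
    haveI : Nontrivial (S : Subgroup G) :=
      ⟨⟨z, hzS⟩, 1, fun h => hz1 (congrArg Subtype.val h)⟩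
    haveI := S.isPGroup'.center_nontrivial
    obtain ⟨⟨⟨w, hwS⟩, hw⟩, hw1⟩ := exists_ne (1 : center (S : Subgroup G))
    have hw1' : w ≠ 1 := fun h => hw1 (Subtype.ext (Subtype.ext h))
    have hwC : w ∈ centralizer ({z} : Set G) := mem_centralizer_singleton_iff.2
      (congrArg Subtype.val (mem_center_iff.1 hw ⟨z, hzS⟩)).symm
    obtain ⟨i, hi⟩ := S.isPGroup' ⟨w, hwS⟩
    obtain ⟨-, hwinv⟩ := hcent w hw1' i
      (congrArg (fun v : (S : Subgroup G) => (v : G)) hi) (hCinv w hwC)
    have hSC : (S : Subgroup G) ≤ centralizer ({z} : Set G) := by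
      intro r hr
      have hrw : r ∈ centralizer ({w} : Set G) := mem_centralizer_singleton_iff.2
        (congrArg Subtype.val (mem_center_iff.1 hw ⟨r, hr⟩))
      have hzw : z ∈ centralizer ({w} : Set G) := mem_centralizer_singleton_iff.2
        (mem_centralizer_singleton_iff.1 hwC).symm
      exact mem_centralizer_singleton_iff.2 (hinvcomm t _ hwinv r hrw z hzw)
    refine ⟨⟨S, fun r hr => ?_⟩, hzS⟩
    rw [hCinv r (hSC hr)]
    exact inv_mem hr
  set m := M.index
  set n := Nat.card {s : G // orderOf s = 2 ∧ s ∈ M}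
  have hnp : n = p := hR.card_involutions
  have hm2 : 2 ≤ m := by
    by_contra hlt
    have h0 : M.index ≠ 0 := index_ne_zero_of_finite
    exact hM.1 (index_eq_one.1 (by omega))
  -- first count
  obtain ⟨R₀⟩ : Nonempty (Sylow p G) := inferInstance
  set q := Nat.card (R₀ : Subgroup G) with hq
  have hcardR : ∀ R : Sylow p G, Nat.card (R : Subgroup G) = q := fun R => by
    rw [hq, R.card_eq_multiplicity, R₀.card_eq_multiplicity]
  set k := Nat.card 𝓡 with hk
  have hcount1 : k * (q - 1) = (m - 1) * p := by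
    haveI : Fintype 𝓡 := Fintype.ofFinite _
    rw [← hnp, ← card_outside hM]
    have hcard : Nat.card (Σ R : 𝓡, {r : (R.1 : Subgroup G) // r ≠ 1}) = k * (q - 1) := by
      rw [Nat.card_sigma, hk, Nat.card_eq_fintype_card]
      rw [Finset.sum_congr rfl (fun R _ => show
        Nat.card {r : (R.1 : Subgroup G) // r ≠ 1} = q - 1 by
          rw [← hcardR R.1, ← Nat.card_congr (Equiv.optionSubtypeNe (1 : (R.1 : Subgroup G))),
            Finite.card_option, Nat.add_sub_cancel]),
        Finset.sum_const, Finset.card_univ, smul_eq_mul]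
    rw [← hcard]
    refine Nat.card_eq_of_bijective (fun x => ⟨t * x.2.1, ?_, ?_⟩) ⟨?_, ?_⟩
    · have h1 : t * (x.2.1 : G) * t = (x.2.1 : G)⁻¹ := by
        have h0 := hfpf t ht2 x.1.1 x.1.1.isPGroup' x.1.2 _ x.2.1.2
        generalize ((x.2.1 : (x.1.1 : Subgroup G)) : G) = r at h0 ⊢
        rwa [hti] at h0
      refine orderOf_eq_two ?_ fun h => x.2.2 (Subtype.ext ?_)
      · rw [← mul_assoc, h1, inv_mul_cancel]
      · obtain ⟨i, hi⟩ := x.1.1.isPGroup' x.2.1
        refine hpodd (k := i) (congrArg (fun w : (x.1.1 : Subgroup G) => (w : G)) hi) ?_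
        have he : (x.2.1 : G) = t := by
          have := congrArg (t * ·) h
          simpa [← mul_assoc, htt] using this
        rw [he, pow_two, htt]
    · intro h
      have h1 := mul_mem ht h
      rw [← mul_assoc, htt, one_mul] at h1
      obtain ⟨i, hi⟩ := x.1.1.isPGroup' x.2.1
      exact x.2.2 (Subtype.ext (hnoinv _ h1 i (congrArg (fun w : (x.1.1 : Subgroup G) => (w : G)) hi)
        (hfpf t ht2 x.1.1 x.1.1.isPGroup' x.1.2 _ x.2.1.2)))
    · rintro ⟨R, r, hr⟩ ⟨R', r', hr'⟩ h
      have h1 : (r : G) = r' := mul_left_cancel (congrArg Subtype.val h)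
      have hr1 : (r : G) ≠ 1 := fun h => hr (Subtype.ext h)
      have hRR : R = R' := Subtype.ext (Sylow.ext
        ((huniq R.1 R.2 r r.2 hr1).trans (huniq R'.1 R'.2 r (h1 ▸ r'.2) hr1).symm))
      subst hRR
      exact congrArg (Sigma.mk R) (Subtype.ext (Subtype.ext h1))
    · rintro ⟨v, hv2, hvM⟩
      obtain ⟨i, hi⟩ := c.pow_prime_pow_mul_eq_one hM ht ht2 hvM hv2
      have hz1 : t * v ≠ 1 := fun h => hvM (by
        rw [mul_eq_one_iff_inv_eq, hti] at h; exact h ▸ ht)
      obtain ⟨R, hR'⟩ := hcover (t * v) hz1 i hi (by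
        rw [mul_inv_rev, StrongEmb.inv_eq_of_orderOf hv2, hti, ← mul_assoc t t v, htt, one_mul])
      refine ⟨⟨R, ⟨t * v, hR'⟩, fun h => hz1 (congrArg Subtype.val h)⟩, Subtype.ext ?_⟩
      show t * (t * v) = v
      rw [← mul_assoc, htt, one_mul]
  have hk0 : 0 < k := by
    rcases k.eq_zero_or_pos with h | h
    · rw [h, zero_mul, eq_comm, mul_eq_zero] at hcount1
      have := hp.out.pos
      omega
    · exact h
  -- second count
  have hcount2 : m * p * k = Nat.card (Sylow p G) * q := by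
    let X := {x : G × Sylow p G // orderOf x.1 = 2 ∧ ∀ r ∈ x.2, x.1 * r * x.1⁻¹ ∈ x.2}
    let e1 : X ≃ Σ s : {s : G // orderOf s = 2}, {R : Sylow p G // ∀ r ∈ R, s.1 * r * s.1⁻¹ ∈ R} :=
      { toFun := fun x => ⟨⟨x.1.1, x.2.1⟩, x.1.2, x.2.2⟩
        invFun := fun y => ⟨(y.1.1, y.2.1), y.1.2, y.2.2⟩
        left_inv := fun _ => rfl
        right_inv := fun _ => rfl }
    let e2 : X ≃ Σ R : Sylow p G, {s : G // orderOf s = 2 ∧ ∀ r ∈ R, s * r * s⁻¹ ∈ R} :=
      { toFun := fun x => ⟨x.1.2, x.1.1, x.2⟩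
        invFun := fun y => ⟨(y.2.1, y.1), y.2.2⟩
        left_inv := fun _ => rfl
        right_inv := fun _ => rfl }
    haveI : Fintype (Sylow p G) := Fintype.ofFinite _
    have hf1 : ∀ s : {s : G // orderOf s = 2},
        Nat.card {R : Sylow p G // ∀ r ∈ R, s.1 * r * s.1⁻¹ ∈ R} = k := by
      intro s
      obtain ⟨g, hg⟩ := isConj_iff.1 (StrongEmb.isConj_involutions hM ht2 s.2)
      rw [hk]
      symm
      refine Nat.card_congr (Equiv.subtypeEquiv (MulAction.toPerm g) fun R => ?_)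
      show (∀ r ∈ R, t * r * t⁻¹ ∈ R) ↔ ∀ r ∈ g • R, s.1 * r * s.1⁻¹ ∈ g • R
      simp only [sylow_mem_conj, ← hg]
      refine ⟨fun h r hr => ?_, fun h r hr => ?_⟩
      · convert h _ hr using 1; group
      · have := h (g * r * g⁻¹) (by simpa [mul_assoc] using hr)
        convert this using 1; group
    have hinvol : Nat.card {s : G // orderOf s = 2} = m * p := by
      have h1 := Nat.card_congr (Equiv.sumCompl fun s : {s : G // orderOf s = 2} => s.1 ∈ M)
      rw [Nat.card_sum, Nat.card_congr (Equiv.subtypeSubtypeEquivSubtypeInter _ (· ∈ M)),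
        Nat.card_congr (Equiv.subtypeSubtypeEquivSubtypeInter _ fun s => ¬ s ∈ M),
        card_outside hM] at h1
      rw [← h1]
      change n + (m - 1) * n = m * p
      rw [← hnp]
      obtain ⟨m', hm'⟩ : ∃ m', m = m' + 1 := ⟨m - 1, by omega⟩
      rw [hm', Nat.add_sub_cancel]; ring
    have hf2 : ∀ R : Sylow p G,
        Nat.card {s : G // orderOf s = 2 ∧ ∀ r ∈ R, s * r * s⁻¹ ∈ R} = q := by
      intro R
      obtain ⟨⟨R₁, hR₁⟩⟩ := (Nat.card_pos_iff.1 (hk ▸ hk0)).1
      obtain ⟨g, hg⟩ := MulAction.exists_smul_eq G R₁ R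
      set s₀ := g * t * g⁻¹
      have hs₀ : orderOf s₀ = 2 := by rw [StrongEmb.orderOf_conj', ht2]
      have hs₀n : ∀ r ∈ R, s₀ * r * s₀⁻¹ ∈ R := by
        intro r hr
        rw [← hg, sylow_mem_conj] at hr ⊢
        convert hR₁ _ hr using 1
        simp only [s₀]
        group
      have hinv₀ := hfpf s₀ hs₀ R R.isPGroup' hs₀n
      have hs₀₀ := StrongEmb.mul_self_of_orderOf hs₀
      have hs₀i := StrongEmb.inv_eq_of_orderOf hs₀
      have hR1 : (R : Subgroup G) ≠ ⊥ :=
        R.ne_bot_of_dvd_card ((c.dvd_index hM).trans M.index_dvd_card)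
      obtain ⟨z₀, hz₀, hz₀1⟩ : ∃ z ∈ R, z ≠ 1 := by
        by_contra h
        push Not at h
        exact hR1 ((eq_bot_iff_forall _).2 h)
      rw [← hcardR R]
      symm
      refine Nat.card_eq_of_bijective (fun r : (R : Subgroup G) => ⟨s₀ * r, ?_, ?_⟩)
        ⟨fun a b h => Subtype.ext (mul_left_cancel (congrArg Subtype.val h)), ?_⟩
      · have h1 := hinv₀ r r.2
        rw [hs₀i] at h1
        refine orderOf_eq_two (by rw [← mul_assoc, h1, inv_mul_cancel]) fun h => ?_
        obtain ⟨i, hi⟩ := R.isPGroup' r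
        have h2 := hpodd (k := i) (congrArg (fun w : (R : Subgroup G) => (w : G)) hi) (by
          rw [mul_eq_one_iff_inv_eq, hs₀i] at h
          rw [← h, pow_two, hs₀₀])
        rw [h2, mul_one] at h
        rw [h, orderOf_one] at hs₀
        omega
      · intro x hx
        have := hs₀n _ (mul_mem (mul_mem r.2 hx) (inv_mem r.2))
        convert this using 1
        group
      · rintro ⟨s, hs, hsn⟩
        have hinvs := hfpf s hs R R.isPGroup' hsn
        -- `s₀ s` centralises `R`, so lies in it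
        have hsi := StrongEmb.inv_eq_of_orderOf hs
        have hz : s₀ * s ∈ centralizer ({z₀} : Set G) := by
          rw [mem_centralizer_singleton_iff]
          have h1 : s₀ * s * z₀ * (s₀ * s)⁻¹ = z₀ := by
            calc s₀ * s * z₀ * (s₀ * s)⁻¹ = s₀ * (s * z₀ * s⁻¹) * s₀⁻¹ := by group
              _ = z₀ := by rw [hinvs _ hz₀, hinv₀ _ (inv_mem hz₀), inv_inv]
          exact mul_inv_eq_iff_eq_mul.1 h1
        have hzR : s₀ * s ∈ R := by
          have hR₁z : g⁻¹ * z₀ * g ∈ R₁ := sylow_mem_conj.1 (hg ▸ hz₀)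
          have h1 := huniq R₁ hR₁ _ hR₁z (fun h => hz₀1 (by
            rw [mul_assoc, inv_mul_eq_one, eq_comm, mul_eq_right] at h; exact h))
          rw [← hg, sylow_mem_conj]
          show _ ∈ (R₁ : Subgroup G)
          rw [h1, mem_centralizer_singleton_iff]
          have h2 := mem_centralizer_singleton_iff.1 hz
          calc g⁻¹ * (s₀ * s) * g * (g⁻¹ * z₀ * g) = g⁻¹ * (s₀ * s * z₀) * g := by group
            _ = g⁻¹ * (z₀ * (s₀ * s)) * g := by rw [h2]
            _ = g⁻¹ * z₀ * g * (g⁻¹ * (s₀ * s) * g) := by group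
        exact ⟨⟨s₀ * s, hzR⟩, Subtype.ext (show s₀ * (s₀ * s) = s by
          rw [← mul_assoc, hs₀₀, one_mul])⟩
    haveI : Fintype {s : G // orderOf s = 2} := Fintype.ofFinite _
    calc m * p * k = Nat.card X := by
          rw [Nat.card_congr e1, Nat.card_sigma, Finset.sum_congr rfl (fun s _ => hf1 s),
            Finset.sum_const, Finset.card_univ, smul_eq_mul, ← Nat.card_eq_fintype_card, hinvol]
      _ = Nat.card (Sylow p G) * q := by
          rw [Nat.card_congr e2, Nat.card_sigma, Finset.sum_congr rfl (fun R _ => hf2 R),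
            Finset.sum_const, Finset.card_univ, smul_eq_mul, ← Nat.card_eq_fintype_card]
  -- conclusion
  have hpq : p ∣ q := R₀.dvd_card_of_dvd_card ((c.dvd_index hM).trans M.index_dvd_card)
  have hpk : p ∣ k := by
    refine (hp.out.dvd_mul.1 (show p ∣ k * (q - 1) from hcount1 ▸ dvd_mul_left p _)).resolve_right fun h => ?_
    have h1 : p ∣ q - (q - 1) := Nat.dvd_sub hpq h
    rw [Nat.sub_sub_self (Nat.card_pos (α := (R₀ : Subgroup G)))] at h1
    exact hp.out.not_dvd_one h1
  obtain ⟨j, hj⟩ : q ∣ Nat.card (normalizer (R₀ : Set G)) :=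
    card_dvd_of_le le_normalizer
  have hG : Nat.card (Sylow p G) * (q * j) = m * (p * Nat.card ↥(centralizer ({t} : Set G))) := by
    rw [← hj, R₀.card_eq_index_normalizer, Subgroup.index_mul_card, ← hR.card t ht ht2,
      Subgroup.index_mul_card]
  rw [← mul_assoc, ← hcount2, mul_assoc (m * p), ← mul_assoc m p] at hG
  have hfin := Nat.eq_of_mul_eq_mul_left (Nat.mul_pos (by omega : 0 < m) hp.out.pos) hG
  exact hR.not_dvd_centralizer t ht2 (hfin ▸ hpk.mul_right j)

end Cfsg.Agent.NilpotentPPrime
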