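import Cfsg.Agent.Lib.AbelianPComplement.StrongEmb
import Cfsg.Agent.Lib.Subnormal.Nilpotent
import Cfsg.Agent.Lib.ConjFun.Basic
import Cfsg.Agent.Lib.Qd.TISylow

/-!
# Groups whose `p'`-subgroups are nilpotent, `p ≥ 5`

Inheritance, the coprime commutation lemmas, and a minimal insoluble example: it is `S₄`-free,
and its soluble subgroups lift every `p'`-section.
-/

set_option autoImplicit false

namespace Cfsg.Agent.NilpotentPPrime

open Subgroup
open Cfsg.Agent.AbelianPComplement (card_sup_dvd_mul coprime_card_sup coprime_card_zpowers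
  coprime_of_isPGroup_two exists_coprime_map_eq_top)

/-- Every `p'`-subgroup is nilpotent. -/
def Hyp (p : ℕ) (G : Type*) [Group G] : Prop :=
  ∀ H : Subgroup G, (Nat.card ↥H).Coprime p → Group.IsNilpotent ↥H

variable {G : Type*} [Group G] {p : ℕ}

theorem Hyp.of_subgroup (h : Hyp p G) (X : Subgroup G) : Hyp p ↥X := by
  intro H hH
  haveI := h (H.map X.subtype) (by rwa [card_map_of_injective X.subtype_injective])
  exact Group.nilpotent_of_surjective (H.equivMapOfInjective X.subtype X.subtype_injective).symm.toMonoidHom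
    (H.equivMapOfInjective X.subtype X.subtype_injective).symm.surjective

variable [Finite G]

/-- Elements of coprime order of a finite nilpotent group commute. -/
theorem commute_of_coprime [Group.IsNilpotent G] {a b : G}
    (h : (orderOf a).Coprime (orderOf b)) : Commute a b := by
  obtain ⟨e⟩ := ((Group.isNilpotent_of_finite_tfae (G := G)).out 0 4).mp
    (show Group.IsNilpotent G from inferInstance)
  apply e.symm.injective
  rw [map_mul, map_mul]
  funext q Q
  simp only [Pi.mul_apply]
  have := Fact.mk (Nat.prime_of_mem_primeFactors q.2)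
  have hkill : ∀ c : G, ¬ (q : ℕ) ∣ orderOf c → e.symm c q Q = 1 := by
    intro c hc
    obtain ⟨j, hj⟩ := (IsPGroup.iff_orderOf).mp Q.2 (e.symm c q Q)
    refine orderOf_eq_one_iff.mp (Nat.eq_one_of_dvd_coprimes
      (Nat.Coprime.pow_left j ((Nat.prime_of_mem_primeFactors q.2).coprime_iff_not_dvd.mpr hc)) hj.dvd ?_)
    refine orderOf_dvd_of_pow_eq_one ?_
    have := congrArg (fun f => f q Q) (congrArg e.symm (pow_orderOf_eq_one c))
    rw [map_pow, map_one] at this
    exact this
  by_cases hq : (q : ℕ) ∣ orderOf a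
  · rw [hkill b fun hy => (Nat.prime_of_mem_primeFactors q.2).ne_one
      (Nat.eq_one_of_dvd_coprimes h hq hy)]
    simp
  · rw [hkill a hq]; simp

theorem Hyp.commute (h : Hyp p G) {A : Subgroup G} (hA : (Nat.card A).Coprime p) {x y : G}
    (hx : x ∈ A) (hy : y ∈ A) (hco : (orderOf x).Coprime (orderOf y)) : x * y = y * x := by
  haveI := h A hA
  exact congrArg Subtype.val (commute_of_coprime (a := (⟨x, hx⟩ : A)) (b := ⟨y, hy⟩)
    (by simpa [Subgroup.orderOf_mk] using hco)).eq

/-- A `p'`-element commutes with the elements of coprime order of a `p'`-subgroup it normalises. -/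
theorem Hyp.commute_of_mem_normalizer (h : Hyp p G) {D : Subgroup G} (hD : (Nat.card D).Coprime p)
    {y u : G} (hy : y ∈ normalizer (D : Set G)) (hyp' : (orderOf y).Coprime p) (hu : u ∈ D)
    (hco : (orderOf y).Coprime (orderOf u)) : y * u = u * y :=
  h.commute (coprime_card_sup (zpowers_le.2 hy) (coprime_card_zpowers hyp') hD)
    (mem_sup_left (mem_zpowers y)) (mem_sup_right hu) hco

/-- An involution inverts no nontrivial element of odd order prime to `p`. -/
theorem Hyp.eq_one_of_inverted [hp : Fact p.Prime] (hp2 : p ≠ 2) (h : Hyp p G) {t x : G}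
    (ht : t * t = 1) (hx : Odd (orderOf x)) (hpx : (orderOf x).Coprime p)
    (hinv : t * x * t⁻¹ = x⁻¹) : x = 1 := by
  have h2 : orderOf t ∣ 2 := orderOf_dvd_of_pow_eq_one (by rw [pow_two]; exact ht)
  have ho : (orderOf t).Coprime p := Nat.Coprime.coprime_dvd_left h2
    ((Nat.coprime_primes Nat.prime_two hp.out).2 (Ne.symm hp2))
  have hN : t ∈ normalizer (zpowers x : Set G) := by
    rw [mem_normalizer_iff_map_conj_eq, MonoidHom.map_zpowers]
    show zpowers (t * x * t⁻¹) = _
    rw [hinv, zpowers_inv]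
  have hc := h.commute_of_mem_normalizer (coprime_card_zpowers hpx) hN ho (mem_zpowers x)
    ((Nat.coprime_two_left.2 hx).coprime_dvd_left h2)
  rw [hc, mul_inv_cancel_right] at hinv
  have h3 : x ^ 2 = 1 := by
    rw [pow_two]
    nth_rewrite 2 [hinv]
    exact mul_inv_cancel x
  rcases (Nat.dvd_prime Nat.prime_two).1 (orderOf_dvd_of_pow_eq_one h3) with h1 | h1
  · exact orderOf_eq_one_iff.1 h1
  · rw [h1] at hx; exact absurd hx (by decide)

/-- A soluble group with the hypothesis has no non-nilpotent `p'`-section. -/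
theorem Hyp.isNilpotent_of_surjective [Fact p.Prime] [Group.IsSolvable G] (h : Hyp p G) {H : Type*}
    [Group H] [Finite H] (f : G →* H) (hf : Function.Surjective f) (hH : (Nat.card H).Coprime p) :
    Group.IsNilpotent H := by
  obtain ⟨A, hA, htop⟩ := exists_coprime_map_eq_top f hf hH
  haveI := h A hA
  refine Group.nilpotent_of_surjective (f.comp A.subtype) fun x => ?_
  obtain ⟨a, ha, rfl⟩ : x ∈ A.map f := htop ▸ mem_top x
  exact ⟨⟨a, ha⟩, rfl⟩

theorem not_isNilpotent_perm_four : ¬ Group.IsNilpotent (Equiv.Perm (Fin 4)) := by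
  intro h
  have h1 : orderOf (Equiv.swap (0 : Fin 4) 1) = 2 := by
    haveI : Fact (Nat.Prime 2) := ⟨Nat.prime_two⟩
    exact orderOf_eq_prime (by decide) (by decide)
  have h2 : orderOf (Equiv.swap (1 : Fin 4) 2 * Equiv.swap (2 : Fin 4) 3) = 3 := by
    haveI : Fact (Nat.Prime 3) := ⟨Nat.prime_three⟩
    exact orderOf_eq_prime (by decide) (by decide)
  have := commute_of_coprime (G := Equiv.Perm (Fin 4)) (a := Equiv.swap (0 : Fin 4) 1)
    (b := Equiv.swap (1 : Fin 4) 2 * Equiv.swap (2 : Fin 4) 3) (by rw [h1, h2]; norm_num)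
  exact absurd this.eq (by decide)

universe u

/-- A minimal insoluble group with all `p'`-subgroups nilpotent. -/
structure MinCtx (p : ℕ) (G : Type u) [Group G] : Prop where
  hyp : Hyp p G
  five : 5 ≤ p
  even : Even (Nat.card G)
  simple : IsSimpleGroup G
  not_solvable : ¬ Group.IsSolvable G
  solvable : ∀ X : Subgroup G, X ≠ ⊤ → Group.IsSolvable X

variable {G : Type u} [Group G] [Finite G] {p : ℕ} [hp : Fact p.Prime]

theorem MinCtx.ne_two (c : MinCtx p G) : p ≠ 2 := by have := c.five; omega

theorem MinCtx.eq_bot_of_normal (c : MinCtx p G) {N : Subgroup G} (hN : N.Normal) (h : N ≠ ⊤) :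
    N = ⊥ := by
  haveI := c.simple
  exact (hN.eq_bot_or_eq_top).resolve_right h

theorem MinCtx.normalizer_ne_top (c : MinCtx p G) {D : Subgroup G} (h : D ≠ ⊥) (h' : D ≠ ⊤) :
    normalizer (D : Set G) ≠ ⊤ := fun ht => h (c.eq_bot_of_normal (normalizer_eq_top_iff.1 ht) h')

theorem MinCtx.ne_top_of_isSolvable (c : MinCtx p G) {D : Subgroup G} (h : Group.IsSolvable D) :
    D ≠ ⊤ := by
  rintro rfl
  exact c.not_solvable (Group.isSolvable_of_surjective (f := (⊤ : Subgroup G).subtype)
    fun g => ⟨⟨g, mem_top g⟩, rfl⟩)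

theorem MinCtx.ne_top_of_isPGroup (c : MinCtx p G) {q : ℕ} [Fact q.Prime] {D : Subgroup G}
    (hD : IsPGroup q D) : D ≠ ⊤ := by
  haveI := hD.isNilpotent
  exact c.ne_top_of_isSolvable inferInstance

theorem MinCtx.center_eq_bot (c : MinCtx p G) : center G = ⊥ :=
  c.eq_bot_of_normal inferInstance (c.ne_top_of_isSolvable
    (Group.isSolvable_of_comm fun a b => Subtype.ext (mem_center_iff.1 b.2 a)))

theorem MinCtx.centralizer_ne_top (c : MinCtx p G) {a : G} (ha : a ≠ 1) :
    centralizer ({a} : Set G) ≠ ⊤ := fun h => by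
  have h1 : a ∈ center G := mem_center_iff.2 fun g =>
    mem_centralizer_singleton_iff.1 (h ▸ mem_top g)
  rw [c.center_eq_bot, mem_bot] at h1
  exact ha h1

theorem MinCtx.ne_top_of_odd (c : MinCtx p G) {D : Subgroup G} (h : Odd (Nat.card D)) : D ≠ ⊤ := by
  rintro rfl
  rw [card_top] at h
  exact Nat.not_even_iff_odd.2 h c.even

/-- A minimal counterexample does not involve `S₄`. -/
theorem MinCtx.s4Free (c : MinCtx p G) : ¬ Cfsg.Involves (Equiv.Perm (Fin 4)) G := by
  intro hinv
  obtain ⟨K, φ, hφ⟩ := ConjFun.exists_surjective_of_involves hinv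
  have h24 : (Nat.card (Equiv.Perm (Fin 4))).Coprime p := by
    rw [Nat.card_perm, Nat.card_fin, show Nat.factorial 4 = 2 ^ 3 * 3 from rfl]
    exact Nat.Coprime.mul_left
      (((Nat.coprime_primes Nat.prime_two hp.out).2 c.ne_two.symm).pow_left 3)
      ((Nat.coprime_primes Nat.prime_three hp.out).2 (by have := c.five; omega))
  by_cases hK : K = ⊤
  · subst hK
    haveI := c.simple
    set ψ : G →* Equiv.Perm (Fin 4) := φ.comp (Subgroup.topEquiv.symm.toMonoidHom) with hψdef
    have hψs : Function.Surjective ψ := hφ.comp Subgroup.topEquiv.symm.surjective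
    have hker : ψ.ker = ⊥ := c.eq_bot_of_normal inferInstance fun h => by
      obtain ⟨x, hx⟩ := hψs (Equiv.swap 0 1)
      have h1 : ψ x = 1 := MonoidHom.mem_ker.1 (h ▸ mem_top x)
      rw [h1] at hx
      exact absurd hx.symm (by decide)
    have hcard : Nat.card G = Nat.card (Equiv.Perm (Fin 4)) :=
      Nat.card_congr (Equiv.ofBijective ψ ⟨(MonoidHom.ker_eq_bot_iff ψ).1 hker, hψs⟩)
    haveI : Group.IsNilpotent G := by
      haveI := c.hyp ⊤ (by rwa [card_top, hcard])
      exact Group.nilpotent_of_surjective (Subgroup.topEquiv (G := G)).toMonoidHom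
        (Subgroup.topEquiv (G := G)).surjective
    exact c.not_solvable inferInstance
  · haveI := c.solvable K hK
    exact not_isNilpotent_perm_four ((c.hyp.of_subgroup K).isNilpotent_of_surjective φ hφ h24)

end Cfsg.Agent.NilpotentPPrime
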