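import Cfsg.Agent.Lib.NilpotentPPrime.Final
import Cfsg.Agent.S0205

/-!
# Groups whose `p'`-subgroups are nilpotent are soluble for `p > 3`
-/

set_option autoImplicit false
set_option linter.style.haveILetI false

namespace Cfsg.Agent.NilpotentPPrime

open Subgroup
open scoped Pointwise
open Cfsg.Agent.AbelianPComplement (exists_coprime_map_eq_top)

universe u

/-- The quotient by a normal subgroup inherits the hypothesis, or the group is soluble. -/
theorem isSolvable_of_normal {G : Type u} [Group G] [Finite G] {p : ℕ} [hp : Fact p.Prime]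
    (h : Hyp p G) (hsol : ∀ X : Subgroup G, X ≠ ⊤ → Group.IsSolvable X) (N : Subgroup G) [N.Normal]
    (hN : N ≠ ⊤) (hquot : Hyp p (G ⧸ N) → Group.IsSolvable (G ⧸ N)) : Group.IsSolvable G := by
  haveI := hsol N hN
  suffices hq : Group.IsSolvable (G ⧸ N) from
    Group.isSolvable_of_ker_le_range N.subtype (QuotientGroup.mk' N)
      (by rw [QuotientGroup.ker_mk', range_subtype])
  by_cases hfull : (Nat.card (G ⧸ N)).Coprime p
  · obtain ⟨Q⟩ : Nonempty (Sylow p N) := inferInstance
    set X := normalizer (((Q : Subgroup N).map N.subtype : Subgroup G) : Set G) with hX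
    have hfr : X ⊔ N = ⊤ := Sylow.normalizer_sup_eq_top Q
    by_cases hXt : X = ⊤
    · set Q' := (Q : Subgroup N).map N.subtype with hQ'
      have hQn : Q'.Normal := normalizer_eq_top_iff.1 hXt
      have hndvd : ¬ p ∣ (Q : Subgroup N).index * N.index := hp.out.not_dvd_mul Q.not_dvd_index
        (by rw [N.index_eq_card]; exact (hp.out.coprime_iff_not_dvd).1 hfull.symm)
      have hidx : (Nat.card Q').Coprime Q'.index := by
        obtain ⟨k, hk⟩ := IsPGroup.iff_card.1 Q.isPGroup'
        rw [hQ', index_map_subtype, card_map_of_injective N.subtype_injective, hk]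
        exact Nat.Coprime.pow_left k (hp.out.coprime_iff_not_dvd.2 hndvd)
      haveI := hQn
      obtain ⟨K, hK⟩ := exists_right_complement'_of_coprime (N := Q') hidx
      have hKp : (Nat.card K).Coprime p := by
        rw [← hK.symm.index_eq_card, hQ', index_map_subtype, Nat.coprime_comm,
          hp.out.coprime_iff_not_dvd]
        exact hndvd
      haveI := h K hKp
      refine Group.isSolvable_of_surjective (f := (QuotientGroup.mk' N).comp K.subtype) fun y => ?_
      obtain ⟨g, rfl⟩ := QuotientGroup.mk'_surjective N y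
      obtain ⟨⟨⟨q, hq⟩, k⟩, hg⟩ := hK.surjective g
      refine ⟨k, ?_⟩
      rw [← hg]
      show QuotientGroup.mk' N (k : G) = QuotientGroup.mk' N (q * k)
      have h1 : QuotientGroup.mk' N q = 1 :=
        (QuotientGroup.eq_one_iff _).2 ((map_subtype_le (Q : Subgroup N)) hq)
      rw [map_mul, h1, one_mul]
    · haveI := hsol X hXt
      refine Group.isSolvable_of_surjective (f := (QuotientGroup.mk' N).comp X.subtype) ?_
      intro y
      obtain ⟨g, rfl⟩ := QuotientGroup.mk'_surjective N y
      obtain ⟨x, hx, n, hn, rfl⟩ : g ∈ (X : Set G) * (N : Set G) := by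
        rw [← mul_normal, hfr]; trivial
      exact ⟨⟨x, hx⟩, by simp [(QuotientGroup.eq_one_iff n).2 hn]⟩
  · refine hquot fun H hH => ?_
    set f := QuotientGroup.mk' N
    haveI : Group.IsSolvable ↥(H.comap f) := hsol _ fun ht => hfull (by
      have h1 : H = ⊤ := by
        rw [← map_comap_eq_self_of_surjective (QuotientGroup.mk'_surjective N) H, ht,
          map_top_of_surjective f (QuotientGroup.mk'_surjective N)]
      rwa [h1, card_top] at hH)
    refine (h.of_subgroup (H.comap f)).isNilpotent_of_surjective (f.subgroupComap H) (fun x => ?_) hH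
    obtain ⟨g, hg⟩ := QuotientGroup.mk'_surjective N (x : G ⧸ N)
    exact ⟨⟨g, show f g ∈ H by rw [show f g = _ from hg]; exact x.2⟩, Subtype.ext hg⟩

/-- **A group whose `p'`-subgroups are nilpotent, `p ≥ 5`, is soluble.** -/
theorem isSolvable {G : Type u} [Group G] [Finite G] (p : ℕ) [hp : Fact p.Prime] (h5 : 5 ≤ p)
    (h : Hyp p G) : Group.IsSolvable G := by
  suffices key : ∀ (n : ℕ) (H : Type u) [Group H] [Finite H], Nat.card H = n → Hyp p H →
      Group.IsSolvable H from key _ G rfl h
  intro n
  induction n using Nat.strong_induction_on with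
  | _ n ih =>
  intro H _ _ hn hH
  by_contra hns
  have hsol : ∀ X : Subgroup H, X ≠ ⊤ → Group.IsSolvable X := fun X hX =>
    ih _ (hn ▸ lt_of_le_of_ne (card_le_card_group X)
      fun he => hX (X.eq_top_of_card_eq he)) X rfl (hH.of_subgroup X)
  have hnt : Nontrivial H := by
    by_contra hc
    rw [not_nontrivial_iff_subsingleton] at hc
    exact hns (Group.isSolvable_of_comm fun a b => Subsingleton.elim _ _)
  have hsimple : IsSimpleGroup H := by
    refine ⟨fun N hN => or_iff_not_imp_right.2 fun htop => ?_⟩
    by_contra hbot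
    haveI := hN
    refine hns (isSolvable_of_normal hH hsol N htop fun hq => ih _ ?_ (H ⧸ N) rfl hq)
    rw [← hn, N.card_eq_card_quotient_mul_card_subgroup]
    exact lt_mul_of_one_lt_right Nat.card_pos ((one_lt_card_iff_ne_bot N).2 hbot)
  refine MinCtx.false (p := p) (G := H) ⟨hH, h5, ?_, hsimple, hns, hsol⟩
  by_contra hev
  exact hns (S0205.result (Nat.not_even_iff_odd.1 hev))

end Cfsg.Agent.NilpotentPPrime
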