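import Cfsg.Agent.Lib.NilpotentPPrime.Local
import Cfsg.Agent.Lib.StellmacherW.Main
import Cfsg.Agent.Lib.ZStar.Main
import Cfsg.Agent.Lib.Signalizer.Equivariant
import Cfsg.Agent.Lib.GoldschmidtFunctor.Fixed
import Cfsg.Agent.S0214
import Cfsg.Agent.S0217

/-!
# A minimal counterexample: a strongly embedded subgroup

With `W = wOf T` for a Sylow `2`-subgroup `T`: `p` divides `|N(W)|` and `|W| ≥ 8`; the odd cores
`θ a` of the centralisers of `a ∈ W#` generate an odd subgroup `K`, and `M = N(W) K` contains the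
normaliser of each of its nontrivial `2`-subgroups.
-/

set_option autoImplicit false
set_option linter.style.haveILetI false

namespace Cfsg.Agent.NilpotentPPrime

open Subgroup
open Cfsg (pCore pPrimeCore IsStronglyEmbedded centralizerPPrimeCore)
open Cfsg.Agent.Involution
open Cfsg.Agent.AbelianPComplement (coprime_of_isPGroup_two card_le_two_mul orderOf_eq_two)

universe u

variable {G : Type u} [Group G] [Finite G]

/-- The odd core of a subgroup, in the ambient group. -/
def oCore (X : Subgroup G) : Subgroup G := (pPrimeCore 2 ↥X).map X.subtype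

omit [Finite G] in
theorem oCore_le (X : Subgroup G) : oCore X ≤ X := map_subtype_le _

theorem coprime_oCore (X : Subgroup G) : (Nat.card ↥(oCore X)).Coprime 2 := by
  rw [oCore, card_map_of_injective X.subtype_injective]
  exact PCore.coprime_card_pPrimeCore

omit [Finite G] in
theorem le_normalizer_oCore (X : Subgroup G) : X ≤ normalizer (oCore X : Set G) := by
  intro x hx
  rw [mem_normalizer_iff]
  intro y
  have hn : (pPrimeCore 2 ↥X).Normal := inferInstance
  constructor
  · rintro ⟨y, hy, rfl⟩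
    exact ⟨⟨x, hx⟩ * y * ⟨x, hx⟩⁻¹, hn.conj_mem _ hy _, by simp⟩
  · rintro ⟨z, hz, hze⟩
    refine ⟨⟨x, hx⟩⁻¹ * z * ⟨x, hx⟩, by simpa using hn.conj_mem _ hz ⟨x, hx⟩⁻¹, ?_⟩
    rw [map_mul, map_mul, hze, map_inv]
    simp [mul_assoc]

/-- In a `2`-constrained `H`, an odd subgroup centralising a `2`-subgroup `U` and normalised by
`C_H(U)` lies in `O(H)`. -/
theorem le_oCore_of_centralizes {H U Y : Subgroup G} (hH : Cfsg.IsPConstrained 2 ↥H) (hUH : U ≤ H)
    (hU : IsPGroup 2 U) (hY : (Nat.card Y).Coprime 2) (hYC : Y ≤ H ⊓ centralizer (U : Set G))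
    (hN : H ⊓ centralizer (U : Set G) ≤ normalizer (Y : Set G)) : Y ≤ oCore H := by
  haveI : Fact (Nat.Prime 2) := ⟨Nat.prime_two⟩
  set P := U.subgroupOf H
  set C := centralizer (P : Set H)
  have hP : IsPGroup 2 P := hU.comap_of_injective _ H.subtype_injective
  have hC : ∀ x : H, x ∈ C ↔ (x : G) ∈ centralizer (U : Set G) := by
    intro x
    rw [mem_centralizer_iff, mem_centralizer_iff]
    exact ⟨fun h u hu => congrArg Subtype.val (h ⟨u, hUH hu⟩ hu), fun h u hu => Subtype.ext (h u hu)⟩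
  have hle : Y.subgroupOf H ≤ C := fun x hx => (hC x).2 (mem_inf.1 (hYC hx)).2
  have hcore : (Y.subgroupOf H).subgroupOf C ≤ pPrimeCore 2 ↥C := by
    refine le_sSup ⟨⟨fun x hx y => ?_⟩, ?_⟩
    · exact (mem_normalizer_iff.1
        (hN (mem_inf.2 ⟨(y : H).2, (hC _).1 y.2⟩)) ((x : H) : G)).1 hx
    · rw [Nat.card_congr (subgroupOfEquivOfLe hle).toEquiv,
        Nat.card_congr (subgroupOfEquivOfLe (hYC.trans inf_le_left)).toEquiv]
      exact hY
  intro y hy
  have hyH : y ∈ H := (mem_inf.1 (hYC hy)).1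
  have h1 : (⟨y, hyH⟩ : H) ∈ (pPrimeCore 2 ↥C).map C.subtype :=
    ⟨⟨_, hle hy⟩, hcore (show (⟨⟨y, hyH⟩, hle hy⟩ : C) ∈ (Y.subgroupOf H).subgroupOf C from hy), rfl⟩
  rw [PCore.map_pPrimeCore_centralizer hH hP] at h1
  exact ⟨_, (mem_inf.1 h1).1, rfl⟩

variable {p : ℕ} [hp : Fact p.Prime]

theorem MinCtx.isPConstrained (c : MinCtx p G) {X : Subgroup G} (hX : X ≠ ⊤) :
    Cfsg.IsPConstrained 2 ↥X := by
  haveI : Fact (Nat.Prime 2) := ⟨Nat.prime_two⟩
  haveI := c.solvable X hX
  exact PCore.isPConstrained_of_isPSolvable PCore.isPSolvable_of_isSolvable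

theorem MinCtx.sylow_ne_bot (c : MinCtx p G) (T : Sylow 2 G) : (T : Subgroup G) ≠ ⊥ := by
  haveI : Fact (Nat.Prime 2) := ⟨Nat.prime_two⟩
  exact T.ne_bot_of_dvd_card c.even.two_dvd

omit hp in
/-- A nontrivial `2`-group contains a central involution. -/
theorem exists_central_involution {U : Subgroup G} (hU : IsPGroup 2 U) (hne : U ≠ ⊥) :
    ∃ u ∈ U, orderOf u = 2 ∧ U ≤ centralizer ({u} : Set G) := by
  haveI : Fact (Nat.Prime 2) := ⟨Nat.prime_two⟩
  haveI := (nontrivial_iff_ne_bot _).2 hne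
  haveI := hU.center_nontrivial
  obtain ⟨k, hk, hc⟩ := (hU.to_subgroup (center U)).nontrivial_iff_card.mp inferInstance
  obtain ⟨z, hz⟩ := exists_prime_orderOf_dvd_card' (G := center U) 2 (hc ▸ dvd_pow_self 2 hk.ne')
  refine ⟨((z : U) : G), (z : U).2, by rw [Subgroup.orderOf_coe, Subgroup.orderOf_coe, hz], ?_⟩
  exact fun y hy => mem_centralizer_singleton_iff.2
    (congrArg Subtype.val (mem_center_iff.1 z.2 ⟨y, hy⟩))

omit hp in
theorem central_mem_wOf {T : Subgroup G} {z : G} (hz : z ∈ T) (hz2 : orderOf z = 2)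
    (hc : T ≤ centralizer ({z} : Set G)) : z ∈ StellmacherW.wOf T := by
  refine StellmacherW.le_wOf (StellmacherW.adm_central
    (StellmacherW.zpowers_elem (hz2 ▸ pow_orderOf_eq_one z)) (zpowers_le.2 hz) ?_) (mem_zpowers z)
  intro y hy
  refine mem_centralizer_iff.2 ?_
  rintro _ ⟨i, rfl⟩
  exact ((show Commute y z from mem_centralizer_singleton_iff.1 (hc hy)).zpow_right i).eq.symm

omit hp in
theorem wOf_ne_bot {T : Subgroup G} (hT : IsPGroup 2 T) (hne : T ≠ ⊥) :
    StellmacherW.wOf T ≠ ⊥ := fun h => by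
  obtain ⟨z, hzT, hz2, hc⟩ := exists_central_involution hT hne
  have h1 := central_mem_wOf hzT hz2 hc
  rw [h, mem_bot] at h1
  rw [h1, orderOf_one] at hz2
  omega

omit hp in
theorem wOf_isPGroup (T : Subgroup G) : IsPGroup 2 ↥(StellmacherW.wOf T) := fun x => ⟨1, Subtype.ext
  (show (x : G) ^ (2 ^ 1) = 1 by rw [pow_one]; exact (StellmacherW.adm_wOf T).hA.2 _ x.2)⟩

omit hp in
theorem wOf_sq {T : Subgroup G} {x : G} (hx : x ∈ StellmacherW.wOf T) : x * x = 1 := by
  rw [← pow_two]; exact (StellmacherW.adm_wOf T).hA.2 x hx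

omit hp in
theorem wOf_comm {T : Subgroup G} {x y : G} (hx : x ∈ StellmacherW.wOf T)
    (hy : y ∈ StellmacherW.wOf T) : x * y = y * x :=
  congrArg Subtype.val ((StellmacherW.adm_wOf T).hA.1.is_comm.comm ⟨x, hx⟩ ⟨y, hy⟩)

/-- `N(wOf T)` moves a central involution, whose class there has size a nontrivial power of `p`. -/
theorem MinCtx.exists_index_class (c : MinCtx p G) (T : Sylow 2 G) :
    ∃ z ∈ StellmacherW.wOf (T : Subgroup G), orderOf z = 2 ∧ ∃ i, i ≠ 0 ∧
      ((centralizer ({z} : Set G)).subgroupOf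
        (normalizer (StellmacherW.wOf (T : Subgroup G) : Set G))).index = p ^ i := by
  haveI : Fact (Nat.Prime 2) := ⟨Nat.prime_two⟩
  obtain ⟨z, hzT, hz2, hzc⟩ := exists_central_involution T.isPGroup' (c.sylow_ne_bot T)
  have hzW := central_mem_wOf hzT hz2 hzc
  refine ⟨z, hzW, hz2, ?_⟩
  set W := StellmacherW.wOf (T : Subgroup G) with hW
  set N := normalizer (W : Set G)
  set S := (centralizer ({z} : Set G)).subgroupOf N
  have hmove : ∃ n ∈ N, n * z * n⁻¹ ≠ z := by
    by_contra hall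
    push Not at hall
    have hiso := ZStar.isolated_of_sylow hz2 hzT fun g hg => by
      obtain ⟨x, hx, he⟩ := (StellmacherW.controls_wOf c.s4Free T (A := {z})
        (Set.singleton_subset_iff.2 hzT)).2 g (by
          rintro _ ⟨a, ha, rfl⟩
          rw [Set.mem_singleton_iff] at ha; subst ha; exact hg)
      rw [he z rfl, hall x hx]
    have hz := ZStar.inZStar hiso
    have hodd : Cfsg.oddCore G = ⊥ := c.eq_bot_of_normal inferInstance
      (c.ne_top_of_odd (PCore.odd_card_oddCore (G := G)))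
    have h1 := ZStar.mem_center_of_oddCore_eq_bot hz hodd
    rw [c.center_eq_bot, mem_bot] at h1
    rw [h1, orderOf_one] at hz2
    omega
  obtain ⟨i, m, hm, him⟩ := Nat.exists_eq_pow_mul_and_not_dvd
    (n := S.index) index_ne_zero_of_finite p hp.out.ne_one
  suffices hm1 : m = 1 by
    refine ⟨i, fun hi => ?_, by rw [him, hm1, mul_one]⟩
    have htop : S = ⊤ := index_eq_one.1 (by rw [him, hi, hm1, pow_zero, mul_one])
    obtain ⟨n, hn, hne⟩ := hmove
    have h1 : (⟨n, hn⟩ : N) ∈ S := htop ▸ mem_top _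
    rw [mem_subgroupOf, mem_centralizer_singleton_iff] at h1
    exact hne (by rw [h1, mul_inv_cancel_right])
  by_contra hne1
  obtain ⟨q, hq, hqm⟩ := Nat.exists_prime_and_dvd hne1
  haveI := Fact.mk hq
  have hqS : q ∣ S.index := hqm.trans (Dvd.intro_left _ him.symm)
  by_cases hq2 : q = 2
  · subst hq2
    refine T.not_dvd_index (hqS.trans ?_)
    have hTN : (T : Subgroup G) ≤ N := (StellmacherW.adm_wOf _).hTA
    refine Dvd.dvd.trans ?_ (dvd_of_mul_right_eq _ (relIndex_mul_index hTN))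
    exact index_dvd_of_le (H := (T : Subgroup G).subgroupOf N) (K := S) fun y hy =>
      mem_subgroupOf.2 (hzc (mem_subgroupOf.1 hy))
  have hqp : q ≠ p := fun h => hm (h ▸ hqm)
  let Q : Sylow q N := default
  refine Q.not_dvd_index (hqS.trans (index_dvd_of_le ?_))
  intro y hy
  rw [mem_subgroupOf, mem_centralizer_singleton_iff]
  obtain ⟨k, hk⟩ := Q.isPGroup' ⟨y, hy⟩
  have hk' : (y : G) ^ q ^ k = 1 := congrArg (fun w : (Q : Subgroup N) => ((w : N) : G)) hk
  refine c.hyp.commute_of_mem_normalizer (coprime_of_isPGroup_two c.ne_two (wOf_isPGroup _)) y.2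
    (Nat.Coprime.coprime_dvd_left (orderOf_dvd_of_pow_eq_one hk')
      (((Nat.coprime_primes hq hp.out).2 hqp).pow_left k)) hzW ?_
  rw [hz2]
  exact Nat.Coprime.coprime_dvd_left (orderOf_dvd_of_pow_eq_one hk')
    (((Nat.coprime_primes hq Nat.prime_two).2 hq2).pow_left k)

theorem MinCtx.dvd_card_normalizer_wOf (c : MinCtx p G) (T : Sylow 2 G) :
    p ∣ Nat.card ↥(normalizer (StellmacherW.wOf (T : Subgroup G) : Set G)) := by
  obtain ⟨z, -, -, i, hi, he⟩ := c.exists_index_class T
  exact (dvd_pow_self p hi).trans (he ▸ index_dvd_card _)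

theorem MinCtx.card_wOf (c : MinCtx p G) (T : Sylow 2 G) :
    8 ≤ Nat.card (StellmacherW.wOf (T : Subgroup G)) := by
  classical
  haveI : Fact (Nat.Prime 2) := ⟨Nat.prime_two⟩
  obtain ⟨z, hzW, hz2, i, hi, he⟩ := c.exists_index_class T
  set W := StellmacherW.wOf (T : Subgroup G) with hW
  set N := normalizer (W : Set G)
  set S := (centralizer ({z} : Set G)).subgroupOf N
  have hle : p + 1 ≤ Nat.card W := by
    have h1 : p ≤ Nat.card (N ⧸ S) := by
      rw [← index_eq_card, he]
      exact Nat.le_self_pow hi p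
    let f : Option (N ⧸ S) → W := fun q => q.elim 1 fun q =>
      ⟨(q.out : G) * z * (q.out : G)⁻¹, (mem_normalizer_iff.1 q.out.2 z).1 hzW⟩
    have hne : ∀ g : G, g * z * g⁻¹ ≠ 1 := fun g hg => by
      have h2 : z = 1 := by
        rw [mul_inv_eq_one] at hg; exact mul_left_cancel (hg.trans (mul_one g).symm)
      rw [h2, orderOf_one] at hz2; omega
    have hinj : Function.Injective f := by
      rintro (_ | a) (_ | b) hab
      · rfl
      · exact absurd (congrArg Subtype.val hab).symm (hne _)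
      · exact absurd (congrArg Subtype.val hab) (hne _)
      · have hab' : (a.out : G) * z * (a.out : G)⁻¹ = (b.out : G) * z * (b.out : G)⁻¹ :=
          congrArg Subtype.val hab
        congr 1
        rw [← QuotientGroup.out_eq' a, ← QuotientGroup.out_eq' b, QuotientGroup.eq, mem_subgroupOf,
          mem_centralizer_singleton_iff, coe_mul, coe_inv]
        calc (a.out : G)⁻¹ * b.out * z
            = (a.out : G)⁻¹ * ((b.out : G) * z * (b.out : G)⁻¹) * b.out := by group
          _ = z * ((a.out : G)⁻¹ * b.out) := by rw [← hab']; group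
    have h2 := Nat.card_le_card_of_injective f hinj
    rw [Finite.card_option] at h2
    omega
  obtain ⟨k, hk⟩ := IsPGroup.iff_card.1 (wOf_isPGroup (T : Subgroup G))
  have := c.five
  rw [← hW] at hk
  rw [hk] at hle ⊢
  rcases Nat.lt_or_ge k 3 with h3 | h3
  · interval_cases k <;> omega
  · calc 8 = 2 ^ 3 := rfl
      _ ≤ 2 ^ k := Nat.pow_le_pow_right (by norm_num) h3

omit hp in
/-- An involution normalising an elementary abelian `2`-group of order `≥ 8` centralises at least
four of its elements. -/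
theorem four_le_card_inf_centralizer {W : Subgroup G} (hc : ∀ x ∈ W, ∀ y ∈ W, x * y = y * x)
    (hsq : ∀ x ∈ W, x * x = 1) (h8 : 8 ≤ Nat.card W) {x : G} (hxn : x ∈ normalizer (W : Set G))
    (hx2 : x * x = 1) : 4 ≤ Nat.card ↥(W ⊓ centralizer ({x} : Set G)) := by
  haveI : Fact (Nat.Prime 2) := ⟨Nat.prime_two⟩
  have hconj : ∀ w ∈ W, x * w * x⁻¹ ∈ W := fun w hw => (mem_normalizer_iff.1 hxn w).1 hw
  let f : W →* G := MonoidHom.mk' (fun w => (w : G) * (x * w * x⁻¹)) fun a b => by
    simp only [coe_mul]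
    calc (a : G) * b * (x * (a * b) * x⁻¹) = a * (b * (x * a * x⁻¹)) * (x * b * x⁻¹) := by group
      _ = a * ((x * a * x⁻¹) * b) * (x * b * x⁻¹) := by rw [hc b b.2 _ (hconj a a.2)]
      _ = (a : G) * (x * a * x⁻¹) * ((b : G) * (x * b * x⁻¹)) := by group
  have hxi : x⁻¹ = x := inv_eq_of_mul_eq_one_right hx2
  have h1 : f.range ≤ W ⊓ centralizer ({x} : Set G) := by
    rintro _ ⟨w, rfl⟩
    refine mem_inf.2 ⟨mul_mem w.2 (hconj w w.2), mem_centralizer_singleton_iff.2 ?_⟩
    show (w : G) * (x * w * x⁻¹) * x = x * ((w : G) * (x * w * x⁻¹))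
    calc (w : G) * (x * w * x⁻¹) * x = (x * w * x⁻¹) * w * x := by rw [hc w w.2 _ (hconj w w.2)]
      _ = x * ((w : G) * (x⁻¹ * w * x)) := by group
      _ = x * ((w : G) * (x * w * x⁻¹)) := by rw [hxi]
  have h2 : f.ker.map W.subtype ≤ W ⊓ centralizer ({x} : Set G) := by
    rintro _ ⟨w, hw, rfl⟩
    refine mem_inf.2 ⟨w.2, mem_centralizer_singleton_iff.2 ?_⟩
    have h3 : (w : G) * (x * w * x⁻¹) = 1 := MonoidHom.mem_ker.1 hw
    rw [mul_eq_one_iff_inv_eq, inv_eq_of_mul_eq_one_right (hsq w w.2), eq_mul_inv_iff_mul_eq] at h3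
    exact h3
  have hcard : Nat.card W ≤ Nat.card ↥(W ⊓ centralizer ({x} : Set G)) *
      Nat.card ↥(W ⊓ centralizer ({x} : Set G)) := by
    rw [← f.ker.card_mul_index, Subgroup.index_ker]
    refine Nat.mul_le_mul ?_ (card_le_of_le h1)
    rw [← card_map_of_injective W.subtype_injective]
    exact card_le_of_le h2
  have hC2 : IsPGroup 2 ↥(W ⊓ centralizer ({x} : Set G)) := fun w => ⟨1, Subtype.ext (by
    show (w : G) ^ (2 ^ 1) = 1
    rw [pow_one, pow_two]; exact hsq _ (mem_inf.1 w.2).1)⟩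
  obtain ⟨k, hk⟩ := IsPGroup.iff_card.1 hC2
  rw [hk] at hcard ⊢
  rcases Nat.lt_or_ge k 2 with h | h
  · interval_cases k <;> omega
  · calc 4 = 2 ^ 2 := rfl
      _ ≤ 2 ^ k := Nat.pow_le_pow_right (by norm_num) h

omit hp in
/-- A `2`-subgroup meeting `M` in a subgroup whose normaliser lies in `M` lies in `M`. -/
theorem le_of_normalizer_le {M R : Subgroup G} (hR : IsPGroup 2 R)
    (h : normalizer ((R ⊓ M : Subgroup G) : Set G) ≤ M) : R ≤ M := by
  haveI : Fact (Nat.Prime 2) := ⟨Nat.prime_two⟩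
  by_contra hRM
  have hlt : R ⊓ M < R := lt_of_le_of_ne inf_le_left fun he => hRM (inf_eq_left.1 he)
  obtain ⟨y, hy, hyn⟩ := SetLike.exists_of_lt (SmallSimple.lt_inf_normalizer hR hlt)
  exact hyn (mem_inf.2 ⟨(mem_inf.1 hy).1, h (mem_inf.1 hy).2⟩)

/-- The odd subgroup generated by the cores `O(C(a))`, `a ∈ W#`. -/
noncomputable def bigCore (T : Sylow 2 G) : Subgroup G :=
  ⨆ a : {a : G // a ∈ StellmacherW.wOf (T : Subgroup G) ∧ a ≠ 1}, centralizerPPrimeCore 2 a.1

theorem MinCtx.odd_bigCore (c : MinCtx p G) (T : Sylow 2 G) : Odd (Nat.card (bigCore T)) := by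
  haveI : Fact (Nat.Prime 2) := ⟨Nat.prime_two⟩
  set W := StellmacherW.wOf (T : Subgroup G)
  have h := (S0217.result (p := 2) W (fun a ha b hb => wOf_comm ha hb)
    (fun a ha => by rw [pow_two]; exact wOf_sq ha) (c.card_wOf T)
    (fun a => centralizerPPrimeCore 2 a) (fun a _ _ => map_subtype_le _)
    (fun a _ _ => (Nat.prime_two.coprime_iff_not_dvd).1
      (GoldschmidtFunctor.coprime_centralizerPPrimeCore a).symm)
    (fun a ha _ b hb x hx => (mem_normalizer_iff.1
      (GoldschmidtFunctor.le_normalizer_centralizerPPrimeCore a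
        (mem_centralizer_singleton_iff.2 (wOf_comm hb ha))) x).1 hx)
    (fun a _ ha1 => by
      haveI := c.solvable _ (c.centralizer_ne_top ha1)
      exact Group.isSolvable_of_isSolvable_injective
        (Subgroup.inclusion_injective (GoldschmidtFunctor.centralizerPPrimeCore_le a)))
    (fun a ha _ b hb hb1 => Signalizer.balance_centralizerPPrimeCore
      (by rw [pow_two]; exact wOf_sq ha) (wOf_comm ha hb)
      (c.isPConstrained (c.centralizer_ne_top hb1)))).1
  exact Nat.not_even_iff_odd.1 fun he => h he.two_dvd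

omit hp in
theorem normalizer_wOf_le_normalizer_bigCore (T : Sylow 2 G) :
    normalizer (StellmacherW.wOf (T : Subgroup G) : Set G) ≤ normalizer (bigCore T : Set G) := by
  intro n hn
  rw [mem_normalizer_iff_map_conj_eq]
  refine eq_of_le_of_card_ge ?_ (card_map_of_injective (MulAut.conj n).injective).ge
  rw [bigCore, Subgroup.map_iSup]
  refine iSup_le fun a => ?_
  refine (Signalizer.map_centralizerPPrimeCore a.1 n).trans ?_
  exact le_iSup (fun b : {a : G // a ∈ StellmacherW.wOf (T : Subgroup G) ∧ a ≠ 1} =>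
    centralizerPPrimeCore 2 b.1) ⟨n * a.1 * n⁻¹, (mem_normalizer_iff.1 hn a.1).1 a.2.1, fun h =>
      a.2.2 (by rwa [mul_inv_eq_one, mul_eq_left] at h)⟩

/-- The odd core of the centraliser of an involution of `T` lies in `bigCore T`. -/
theorem MinCtx.centralizerPPrimeCore_le_bigCore (c : MinCtx p G) (T : Sylow 2 G) {x : G}
    (hxT : x ∈ T) (hx : orderOf x = 2) : centralizerPPrimeCore 2 x ≤ bigCore T := by
  haveI : Fact (Nat.Prime 2) := ⟨Nat.prime_two⟩
  set W := StellmacherW.wOf (T : Subgroup G) with hW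
  set F := W ⊓ centralizer ({x} : Set G) with hF
  have hx2 := StrongEmb.mul_self_of_orderOf hx
  have h4 := four_le_card_inf_centralizer (W := W) (fun a ha b hb => wOf_comm ha hb)
    (fun a ha => wOf_sq ha) (c.card_wOf T) ((StellmacherW.adm_wOf _).hTA hxT) hx2
  haveI : IsMulCommutative F := ⟨⟨fun a b => Subtype.ext
    (wOf_comm (mem_inf.1 a.2).1 (mem_inf.1 b.2).1)⟩⟩
  refine Coprime.le_of_forall_cyclic_quotient (A := F)
    (inf_le_right.trans (GoldschmidtFunctor.le_normalizer_centralizerPPrimeCore x)) ?_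
    fun B hB hcyc => ?_
  · obtain ⟨j, hj⟩ := IsPGroup.iff_card.1 ((wOf_isPGroup (T : Subgroup G)).to_le
      (show F ≤ W from inf_le_left))
    rw [hj]
    exact Nat.Coprime.pow_left j (GoldschmidtFunctor.coprime_centralizerPPrimeCore x).symm
  · obtain ⟨a, ha, hsup⟩ := hcyc
    have hsqF : ∀ y ∈ F, y * y = 1 := fun y hy => wOf_sq (mem_inf.1 hy).1
    have h2 := card_le_two_mul hsqF hB ha hsup
    have h4' : 4 ≤ Nat.card F := h4
    obtain ⟨b, hb, hb1⟩ : ∃ b ∈ B, b ≠ 1 := by
      by_contra hno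
      push Not at hno
      rw [(eq_bot_iff_forall B).2 hno, card_bot] at h2
      omega
    have hbF := mem_inf.1 (hB hb)
    refine le_trans ?_ (le_iSup (fun b : {a : G // a ∈ W ∧ a ≠ 1} =>
      centralizerPPrimeCore 2 b.1) ⟨b, hbF.1, hb1⟩)
    refine (inf_le_inf_left _ ?_).trans (Signalizer.balance_centralizerPPrimeCore
      (a := x) (b := b) (by rw [pow_two, hx2]) (mem_centralizer_singleton_iff.1 hbF.2).symm
      (c.isPConstrained (c.centralizer_ne_top hb1)))
    exact centralizer_le (Set.singleton_subset_iff.2 hb)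

/-- The odd core of the normaliser of a nontrivial subgroup of `T` lies in `bigCore T`. -/
theorem MinCtx.oCore_normalizer_le_bigCore (c : MinCtx p G) (T : Sylow 2 G) {U : Subgroup G}
    (hUT : U ≤ (T : Subgroup G)) (hU : U ≠ ⊥) :
    oCore (normalizer (U : Set G)) ≤ bigCore T := by
  haveI : Fact (Nat.Prime 2) := ⟨Nat.prime_two⟩
  have hU2 : IsPGroup 2 U := T.isPGroup'.to_le hUT
  set Y := oCore (normalizer (U : Set G))
  have hYC : Y ≤ centralizer (U : Set G) := by
    intro y hy
    refine mem_centralizer_iff.2 fun u hu => ?_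
    have h1 : u * y * u⁻¹ * y⁻¹ ∈ Y := mul_mem
      ((mem_normalizer_iff.1 (le_normalizer_oCore _ (le_normalizer hu)) y).1 hy) (inv_mem hy)
    have h2 : u * y * u⁻¹ * y⁻¹ ∈ U := by
      rw [mul_assoc u y, mul_assoc u]
      exact mul_mem hu ((mem_normalizer_iff.1 (oCore_le _ hy) u⁻¹).1 (inv_mem hu))
    have h3 := (PCore.disjoint_of_isPGroup_of_coprime hU2 (coprime_oCore _)).le_bot ⟨h2, h1⟩
    rw [mem_bot, mul_inv_eq_one, mul_inv_eq_iff_eq_mul] at h3
    exact h3
  obtain ⟨u, hu, hu2, huc⟩ := exists_central_involution hU2 hU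
  refine le_trans ?_ (c.centralizerPPrimeCore_le_bigCore T (hUT hu) hu2)
  refine le_oCore_of_centralizes (c.isPConstrained (c.centralizer_ne_top fun h => by
    rw [h, orderOf_one] at hu2; omega)) huc hU2 (coprime_oCore _)
    (le_inf (hYC.trans (centralizer_le (Set.singleton_subset_iff.2 hu))) hYC) ?_
  exact inf_le_right.trans ((centralizer_le_normalizer _).trans (le_normalizer_oCore _))

/-- A soluble `S₄`-free group is the product of its odd core and the normaliser of `wOf T₁`. -/
theorem MinCtx.le_of_normalizer_wOf (c : MinCtx p G) {L T₁ M : Subgroup G} (hL : L ≠ ⊤)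
    (hT₁L : T₁ ≤ L) (hT₁ : IsPGroup 2 T₁)
    (hmax : ∀ R : Subgroup G, T₁ ≤ R → R ≤ L → IsPGroup 2 R → R = T₁)
    (hO : oCore L ≤ M) (hN : normalizer (StellmacherW.wOf T₁ : Set G) ≤ M) : L ≤ M := by
  haveI : Fact (Nat.Prime 2) := ⟨Nat.prime_two⟩
  haveI := c.solvable L hL
  set O := pPrimeCore 2 ↥L with hOdef
  set π := QuotientGroup.mk' O
  set g : ↥T₁ →* ↥L := Subgroup.inclusion hT₁L with hg
  have hginj : Function.Injective g := Subgroup.inclusion_injective hT₁L
  set P := g.range with hP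
  have hPp : IsPGroup 2 P := hT₁.of_surjective g.rangeRestrict g.rangeRestrict_surjective
  have hPmap : P.map L.subtype = T₁ := by
    rw [hP, MonoidHom.map_range, hg, subtype_comp_inclusion, range_subtype]
  obtain ⟨S, hS⟩ := hPp.exists_le_sylow
  have hSP : (S : Subgroup L) = P := by
    have h1 := hmax ((S : Subgroup L).map L.subtype) (hPmap ▸ map_mono hS) (map_subtype_le _)
      (S.isPGroup'.map _)
    exact map_injective L.subtype_injective (h1.trans hPmap.symm)
  set e : ↥T₁ →* ↥L ⧸ O := π.comp g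
  have heinj : Function.Injective e := by
    refine (MonoidHom.ker_eq_bot_iff e).1 ((eq_bot_iff_forall _).2 fun x hx => ?_)
    have h1 : g x ∈ O := (QuotientGroup.eq_one_iff _).1 (MonoidHom.mem_ker.1 hx)
    have h2 := (PCore.disjoint_of_isPGroup_of_coprime hPp
      PCore.coprime_card_pPrimeCore).le_bot ⟨⟨x, rfl⟩, h1⟩
    exact hginj (by rw [map_one]; exact h2)
  set S' := S.mapSurjective (QuotientGroup.mk'_surjective O)
  have hS' : (S' : Subgroup (↥L ⧸ O)) = e.range := by
    rw [Sylow.coe_mapSurjective, hSP, hP, MonoidHom.map_range]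
  have hfree : ¬ Cfsg.Involves (Equiv.Perm (Fin 4)) (↥L ⧸ O) := by
    intro h
    obtain ⟨K, φ, hφ⟩ := ConjFun.exists_surjective_of_involves h
    refine c.s4Free (PComplement.involves_iff.mpr ⟨(K.comap π).map L.subtype,
      φ.comp ((π.subgroupComap K).comp
        ((K.comap π).equivMapOfInjective L.subtype L.subtype_injective).symm.toMonoidHom), ?_⟩)
    refine hφ.comp (Function.Surjective.comp (g := π.subgroupComap K) ?_ (MulEquiv.surjective _))
    intro x
    obtain ⟨l, hl⟩ := QuotientGroup.mk'_surjective O (x : ↥L ⧸ O)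
    exact ⟨⟨l, show π l ∈ K by rw [show π l = _ from hl]; exact x.2⟩, Subtype.ext hl⟩
  have hn := StellmacherW.normal_wOf hfree (T := (S' : Subgroup (↥L ⧸ O)))
    (Q₀ := pCore 2 (↥L ⧸ O)) S'.isPGroup' S'.not_dvd_index
    (Balance.pCore_le_sylow S') (Components.pCore_normal' 2)
    (PCore.centralizer_pCore_le_of_isSolvable PCore.pPrimeCore_quotient_self_eq_bot)
  set W₁ := (StellmacherW.wOf (⊤ : Subgroup ↥T₁)).map g with hW₁
  have hW₁e : W₁.map π = StellmacherW.wOf (S' : Subgroup (↥L ⧸ O)) := by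
    rw [hS', hW₁, map_map, ← StellmacherW.map_wOf_top e heinj]
  have hW₁G : W₁.map L.subtype = StellmacherW.wOf T₁ := by
    rw [hW₁, map_map, hg, subtype_comp_inclusion,
      StellmacherW.map_wOf_top _ T₁.subtype_injective, range_subtype]
  have hW₁2 : IsPGroup 2 W₁ := (IsPGroup.to_subgroup hT₁ _).map g
  have htop := PCore.map_normalizer_mk' O PCore.coprime_card_pPrimeCore hW₁2
  rw [hW₁e, normalizer_eq_top_iff.mpr hn] at htop
  intro x hx
  obtain ⟨y, hy, hxy⟩ : π ⟨x, hx⟩ ∈ (normalizer (W₁ : Set L)).map π := htop ▸ mem_top _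
  have h1 : (⟨x, hx⟩ : L) * y⁻¹ ∈ O := by
    rw [← QuotientGroup.ker_mk' O, MonoidHom.mem_ker, map_mul, map_inv]
    rw [mul_inv_eq_one]
    exact hxy.symm
  have h2 : (y : G) ∈ normalizer (StellmacherW.wOf T₁ : Set G) :=
    hW₁G ▸ le_normalizer_map _ (mem_map_of_mem L.subtype hy)
  have h3 := mul_mem (hO (mem_map_of_mem L.subtype h1)) (hN h2)
  simpa using h3

/-- A minimal counterexample has a strongly embedded subgroup containing `N(wOf T)`. -/
theorem MinCtx.exists_stronglyEmbedded (c : MinCtx p G) :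
    ∃ (M : Subgroup G) (T : Sylow 2 G), IsStronglyEmbedded M ∧
      normalizer (StellmacherW.wOf (T : Subgroup G) : Set G) ≤ M := by
  haveI : Fact (Nat.Prime 2) := ⟨Nat.prime_two⟩
  obtain ⟨T⟩ : Nonempty (Sylow 2 G) := inferInstance
  set W := StellmacherW.wOf (T : Subgroup G) with hW
  set K := bigCore T with hK
  set M := normalizer (W : Set G) ⊔ K with hM
  have hMtop : M ≠ ⊤ := by
    by_cases hKb : K = ⊥
    · rw [hM, hKb, sup_bot_eq]
      exact c.normalizer_ne_top (wOf_ne_bot T.isPGroup' (c.sylow_ne_bot T))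
        (c.ne_top_of_isPGroup (wOf_isPGroup _))
    · refine ne_top_of_le_ne_top (c.normalizer_ne_top hKb (c.ne_top_of_odd (c.odd_bigCore T))) ?_
      exact sup_le (normalizer_wOf_le_normalizer_bigCore T) le_normalizer
  have hTM : (T : Subgroup G) ≤ M := (StellmacherW.adm_wOf _).hTA.trans le_sup_left
  have hNT : normalizer ((T : Subgroup G) : Set G) ≤ M :=
    (StellmacherW.normalizer_le_wOf _).trans le_sup_left
  have key : ∀ (d : ℕ) (U S : Subgroup G), U ≠ ⊥ → IsPGroup 2 S → U ≤ S →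
      S ≤ normalizer (U : Set G) → S ≤ M → Nat.card (T : Subgroup G) - Nat.card S = d →
      normalizer (U : Set G) ≤ M := by
    intro d
    induction d using Nat.strong_induction_on with
    | _ d ih =>
    intro U S hU hS hUS hSN hSM hd
    have hleT : ∀ R : Subgroup G, IsPGroup 2 R → Nat.card R ≤ Nat.card (T : Subgroup G) := by
      intro R hR
      obtain ⟨R', hR'⟩ := hR.exists_le_sylow
      exact (card_le_of_le hR').trans (by rw [R'.card_eq_multiplicity, T.card_eq_multiplicity])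
    by_cases hmaxS : ∃ R : Subgroup G, S < R ∧ R ≤ normalizer (U : Set G) ⊓ M ∧ IsPGroup 2 R
    · obtain ⟨R, hSR, hRle, hR⟩ := hmaxS
      have hlt : Nat.card S < Nat.card R := by
        by_contra hge
        exact hSR.ne (eq_of_le_of_card_ge hSR.le (not_lt.1 hge))
      have := hleT R hR
      exact ih _ (by omega) U R hU hR (hUS.trans hSR.le) (hRle.trans inf_le_left)
        (hRle.trans inf_le_right) rfl
    push Not at hmaxS
    obtain ⟨R, hR⟩ := (hS.comap_of_injective M.subtype M.subtype_injective).exists_le_sylow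
    obtain ⟨m, hm⟩ := MulAction.exists_smul_eq M R (T.subtype hTM)
    set φ := (MulAut.conj (m : G)).toMonoidHom with hφ
    have hφinj : Function.Injective φ := (MulAut.conj (m : G)).injective
    have hS' : S.map φ ≤ (T : Subgroup G) := by
      rintro _ ⟨s, hs, rfl⟩
      have h1 : (MulAut.conj m) • (⟨s, hSM hs⟩ : M) ∈ (T.subtype hTM : Subgroup M) := by
        rw [← hm, Sylow.coe_subgroup_smul]
        exact smul_mem_pointwise_smul _ _ _ (hR hs)
      exact h1
    set U' := U.map φ with hU'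
    set T₁ := S.map φ with hT₁
    have hU'ne : U' ≠ ⊥ := by
      rwa [hU', Ne, Subgroup.map_eq_bot_iff_of_injective _ hφinj]
    have hT₁2 : IsPGroup 2 T₁ := hS.map _
    have hT₁ne : T₁ ≠ ⊥ := fun h => hU'ne (le_bot_iff.1 (h ▸ map_mono hUS))
    have hNU' : normalizer (U' : Set G) = (normalizer (U : Set G)).map φ :=
      (map_equiv_normalizer_eq U (MulAut.conj (m : G))).symm
    suffices hgoal : normalizer (U' : Set G) ≤ M by
      intro x hx
      have h1 : φ x ∈ M := hgoal (hNU' ▸ mem_map_of_mem φ hx)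
      have h2 := mul_mem (mul_mem (inv_mem m.2) h1) m.2
      simpa [hφ, mul_assoc] using h2
    have hT₁N : T₁ ≤ normalizer (U' : Set G) := hNU' ▸ map_mono hSN
    have hmaxT₁ : ∀ R : Subgroup G, T₁ ≤ R → R ≤ normalizer (U' : Set G) → R ≤ M →
        IsPGroup 2 R → R = T₁ := by
      intro R h1 h2 h3 h4
      by_contra hne
      refine hmaxS (R.comap φ) ?_ ?_ (h4.comap_of_injective φ hφinj)
      · refine lt_of_le_of_ne (map_le_iff_le_comap.1 h1) fun he => hne ?_
        rw [hT₁, he, map_comap_eq_self_of_surjective (MulAut.conj (m : G)).surjective]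
      · intro x hx
        refine mem_inf.2 ⟨?_, ?_⟩
        · obtain ⟨y, hy, hye⟩ : φ x ∈ (normalizer (U : Set G)).map φ := hNU' ▸ h2 hx
          rwa [← hφinj hye]
        · have h5 := mul_mem (mul_mem (inv_mem m.2) (h3 hx)) m.2
          simpa [hφ, mul_assoc] using h5
    have hcardT₁ : Nat.card T₁ = Nat.card S := card_map_of_injective hφinj
    -- the normalisers of `T₁` and of `wOf T₁` lie in `M`
    have hN1 : normalizer (T₁ : Set G) ≤ M ∧ normalizer (StellmacherW.wOf T₁ : Set G) ≤ M := by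
      by_cases hTe : T₁ = (T : Subgroup G)
      · rw [hTe]
        exact ⟨hNT, le_sup_left⟩
      · have hlt : T₁ < (T : Subgroup G) := lt_of_le_of_ne hS' hTe
        have hlt' := SmallSimple.lt_inf_normalizer T.isPGroup' hlt
        set S₂ := (T : Subgroup G) ⊓ normalizer (T₁ : Set G)
        have hS₂2 : IsPGroup 2 S₂ := T.isPGroup'.to_le inf_le_left
        have hS₂c : Nat.card T₁ < Nat.card S₂ := by
          by_contra hge
          exact hlt'.ne (eq_of_le_of_card_ge hlt'.le (not_lt.1 hge))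
        have := hleT S₂ hS₂2
        refine ⟨ih _ (by omega) T₁ S₂ hT₁ne hS₂2 hlt'.le inf_le_right
          (inf_le_left.trans hTM) rfl, ?_⟩
        exact ih _ (by omega) (StellmacherW.wOf T₁) S₂ (wOf_ne_bot hT₁2 hT₁ne) hS₂2
          ((StellmacherW.adm_wOf T₁).hAT.trans hlt'.le)
          (inf_le_right.trans (StellmacherW.normalizer_le_wOf T₁)) (inf_le_left.trans hTM) rfl
    have hU'T : U' ≤ (T : Subgroup G) := (map_mono hUS).trans hS'
    refine c.le_of_normalizer_wOf (T₁ := T₁)
      (c.normalizer_ne_top hU'ne (c.ne_top_of_isPGroup (T.isPGroup'.to_le hU'T))) hT₁N hT₁2 ?_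
      ((c.oCore_normalizer_le_bigCore T hU'T hU'ne).trans le_sup_right) hN1.2
    intro R h1 h2 h3
    refine hmaxT₁ R h1 h2 (le_of_normalizer_le h3 ?_) h3
    have he : R ⊓ M = T₁ := hmaxT₁ _ (le_inf h1 (hS'.trans hTM)) (inf_le_left.trans h2) inf_le_right
      (h3.to_le inf_le_left)
    rw [he]
    exact hN1.1
  refine ⟨M, T, ?_, le_sup_left⟩
  refine (S0214.result M hMtop (T.subtype hTM) ?_).2 fun X hX hX1 => ?_
  · intro h
    refine c.sylow_ne_bot T ((eq_bot_iff_forall _).2 fun x hx => ?_)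
    have h1 : (⟨x, hTM hx⟩ : M) ∈ (T.subtype hTM : Subgroup M) := hx
    rw [h, mem_bot] at h1
    exact congrArg Subtype.val h1
  · have h1 : X.map M.subtype ≤ (T : Subgroup G) := by
      rintro _ ⟨x, hx, rfl⟩
      exact hX hx
    refine key _ _ (X.map M.subtype) ?_ (T.isPGroup'.to_le h1) le_rfl le_normalizer
      (h1.trans hTM) rfl
    rwa [Ne, Subgroup.map_eq_bot_iff_of_injective _ M.subtype_injective]

end Cfsg.Agent.NilpotentPPrime
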